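import Cfsg.Agent.R2.Spec.X2.LRed
import Cfsg.Agent.R2.Spec.X2.LMain

/-!
# A composition factor `PSL_3(q)` for groups with the element orders of `PSL_3(q)` (helper16)
-/

set_option autoImplicit false

namespace Cfsg.Agent.R2.Spec.X2

open Cfsg

/-- the spectrum -/
theorem LG.of_spec {F : Type*} [Field F] [Fintype F] (p : ℕ) [hp : Fact p.Prime] [CharP F p] (hp2 : p ≠ 2)
    (h5 : 5 ≤ Fintype.card F) {G : Type*} [Group G]
    (h : Set.range (orderOf : G → ℕ) = Set.range (orderOf : Matrix.ProjectiveSpecialLinearGroup (Fin 3) F → ℕ)) :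
    ∃ f d N E P, LG G p f (Fintype.card F) d N E P := by
  obtain ⟨f, -, hf⟩ := FiniteField.card F p
  set q := Fintype.card F with hq
  have hg1 : Nat.gcd 3 (q - 1) ∣ q - 1 := Nat.gcd_dvd_right _ _
  have hg3 : Nat.gcd 3 (q - 1) = 1 ∨ Nat.gcd 3 (q - 1) = 3 := (Nat.dvd_prime Nat.prime_three).1 (Nat.gcd_dvd_left _ _)
  obtain ⟨t, ht⟩ : ∃ t, q = t + 1 := ⟨q - 1, by omega⟩
  have e1 : q ^ 2 - 1 = (q + 1) * (q - 1) := by
    rw [ht, Nat.add_sub_cancel]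
    have : (t + 1) ^ 2 = (t + 1 + 1) * t + 1 := by ring
    omega
  have hd : (Nat.gcd 3 (q - 1) = 1 ∧ q % 3 ≠ 1) ∨ (Nat.gcd 3 (q - 1) = 3 ∧ q % 3 = 1) := by
    by_cases h3 : 3 ∣ q - 1
    · right
      exact ⟨Nat.gcd_eq_left h3, by omega⟩
    · left
      exact ⟨(Nat.Prime.coprime_iff_not_dvd Nat.prime_three).2 h3, by omega⟩
  have hA : LA p f q (Nat.gcd 3 (q - 1)) ((q ^ 2 + q + 1) / Nat.gcd 3 (q - 1)) ((q ^ 2 - 1) / Nat.gcd 3 (q - 1))
      (p * (q - 1) / Nat.gcd 3 (q - 1)) := by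
    refine ⟨hp.out, hp2, f.ne_zero, hf, h5, hd, ?_, ?_, ?_⟩
    · apply Nat.mul_div_cancel'
      rcases hd with ⟨h1, -⟩ | ⟨h1, h2⟩
      · rw [h1]
        exact one_dvd _
      · rw [h1]
        obtain ⟨j, hj⟩ : ∃ j, q = 3 * j + 1 := ⟨q / 3, by omega⟩
        rw [hj]
        exact ⟨3 * j ^ 2 + 3 * j + 1, by ring⟩
    · apply Nat.mul_div_cancel'
      rw [e1]
      exact hg1.mul_left _
    · apply Nat.mul_div_cancel'
      exact hg1.mul_left _
  refine ⟨f, _, _, _, _, ⟨hA, ?_⟩⟩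
  intro m
  have h1 := Set.ext_iff.1 (h.trans (S2476.result (F := F) p)) m
  rw [← hq] at h1
  change (∃ g : G, orderOf g = m) ↔ _ at h1
  rw [h1]
  constructor
  · rintro (h2 | h2 | h2 | h2 | h2)
    · exact Or.inl h2
    · exact Or.inr (Or.inl h2)
    · exact Or.inr (Or.inr (Or.inl h2))
    · exact Or.inr (Or.inr (Or.inr h2))
    · exact absurd h2.1 hp2
  · rintro (h2 | h2 | h2 | h2)
    · exact Or.inl h2
    · exact Or.inr (Or.inl h2)
    · exact Or.inr (Or.inr (Or.inl h2))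
    · exact Or.inr (Or.inr (Or.inr (Or.inl h2)))

/-- **A composition factor isomorphic to `PSL_3(q)`.** -/
theorem psl_three_section {F : Type*} [Field F] [Fintype F] (ho : Odd (Fintype.card F)) (h5 : 5 ≤ Fintype.card F)
    (h7 : Fintype.card F ≠ 7) (h11 : Fintype.card F ≠ 11) {G : Type*} [Group G] [Finite G]
    (hcl : ∀ (M N : Subgroup G) (_ : N.Normal), IsSimpleGroup (M ⧸ N.subgroupOf M) →
      IsKnownSimple' (M ⧸ N.subgroupOf M))
    (h : Set.range (orderOf : G → ℕ) = Set.range (orderOf : Matrix.ProjectiveSpecialLinearGroup (Fin 3) F → ℕ)) :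
    ¬ Group.IsSolvable G ∧ ∃ (N M : Subgroup G) (_ : N.Normal) (_ : M.Normal), N ≤ M ∧ Group.IsSolvable N ∧
      IsSimpleGroup (M ⧸ N.subgroupOf M) ∧ ¬ IsMulCommutative (M ⧸ N.subgroupOf M) ∧
      Nonempty (M ⧸ N.subgroupOf M ≃* Matrix.ProjectiveSpecialLinearGroup (Fin 3) F) := by
  obtain ⟨p, hp⟩ := CharP.exists F
  have hpf : Fact p.Prime := ⟨CharP.char_is_prime F p⟩
  have hp2 : p ≠ 2 := by
    rintro rfl
    obtain ⟨f, -, hf⟩ := FiniteField.card F 2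
    rw [hf] at ho
    have : 2 ∣ 2 ^ (f : ℕ) := dvd_pow_self 2 f.ne_zero
    exact (Nat.not_even_iff_odd.2 ho) (even_iff_two_dvd.2 this)
  obtain ⟨f, d, N, E, P, H⟩ := LG.of_spec p hp2 h5 h
  refine ⟨H.not_solvable, ?_⟩
  obtain ⟨N', M, hN, hM, hNM, hNs, hS, hna, hctx, -⟩ := H.reduce h7
  have := hN
  exact ⟨N', M, hN, hM, hNM, hNs, hS, hna, hctx.main h7 h11 (hcl M N' hN hS) hna rfl⟩

end Cfsg.Agent.R2.Spec.X2
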