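import Cfsg.Agent.R2.Spec.X2.NonSol
import Cfsg.Agent.S3633
import Cfsg.Agent.S2366

/-!
# Groups with the element orders of `PSU_3(q)`, `q` odd, are not solvable (helper16)
-/

set_option autoImplicit false
set_option linter.unusedSectionVars false

namespace Cfsg.Agent.R2.Spec.X2

open Cfsg

/-- the arithmetic of `PSU_3(q)`, `q = p ^ f` odd -/
structure UA (p f q d N E P : ℕ) : Prop where
  hp : p.Prime
  hp2 : p ≠ 2
  hf : f ≠ 0
  hq : q = p ^ f
  h7 : 7 ≤ q
  hd : (d = 1 ∧ q % 3 ≠ 2) ∨ (d = 3 ∧ q % 3 = 2)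
  hN : d * N = q ^ 2 - q + 1
  hE : d * E = q ^ 2 - 1
  hP : d * P = p * (q + 1)

/-- the element orders of `PSU_3(q)` -/
def UOm (q N E P m : ℕ) : Prop := m ∣ q + 1 ∨ m ∣ P ∨ m ∣ E ∨ m ∣ N

/-- `G` has the element orders of `PSU_3(q)`. -/
structure UG (G : Type*) [Group G] (p f q d N E P : ℕ) : Prop where
  A : UA p f q d N E P
  mem : ∀ m, (∃ g : G, orderOf g = m) ↔ UOm q N E P m

/-- `p ^ f = 2 ^ k + 1` -/
theorem fermat_aux {p f q k : ℕ} (hp : p.Prime) (hp2 : p ≠ 2) (hf : f ≠ 0) (hq : q = p ^ f) (hk : q - 1 = 2 ^ k)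
    (h7 : 7 ≤ q) : q = p ∨ q = 9 := by
  have hpo : Odd p := hp.odd_of_ne_two hp2
  rcases Nat.even_or_odd f with hfe | hfo
  · right
    obtain ⟨j, hj⟩ := hfe
    obtain ⟨s, hs⟩ : ∃ s, s = p ^ j := ⟨_, rfl⟩
    have hs2 : q = s ^ 2 := by
      rw [hq, hj, hs, ← pow_mul]
      congr 1
      ring
    have hs3 : 3 ≤ s := by
      by_contra hcon
      have : s ^ 2 ≤ 2 ^ 2 := Nat.pow_le_pow_left (by omega) 2
      omega
    have h1 : (s - 1) * (s + 1) = 2 ^ k := by
      rw [← hk, hs2]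
      obtain ⟨t, rfl⟩ : ∃ t, s = t + 1 := ⟨s - 1, by omega⟩
      rw [Nat.add_sub_cancel]
      have : (t + 1) ^ 2 = t * (t + 1 + 1) + 1 := by ring
      omega
    obtain ⟨a, -, ha⟩ := (Nat.dvd_prime_pow Nat.prime_two).1 (h1 ▸ dvd_mul_right (s - 1) (s + 1))
    obtain ⟨b, -, hb⟩ := (Nat.dvd_prime_pow Nat.prime_two).1 (h1 ▸ dvd_mul_left (s + 1) (s - 1))
    have ha1 : a = 1 := by
      rcases Nat.lt_or_ge a 2 with h2 | h2
      · have : a ≠ 0 := by
          rintro rfl
          norm_num at ha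
          omega
        omega
      · exfalso
        have hb2 : 2 ≤ b := by
          by_contra hcon
          have : 2 ^ b ≤ 2 ^ 1 := Nat.pow_le_pow_right (by norm_num) (by omega)
          omega
        obtain ⟨x, hx⟩ : 2 ^ 2 ∣ s - 1 := by rw [ha]; exact pow_dvd_pow 2 h2
        obtain ⟨y, hy⟩ : 2 ^ 2 ∣ s + 1 := by rw [hb]; exact pow_dvd_pow 2 hb2
        omega
    rw [ha1] at ha
    have : s = 3 := by omega
    rw [hs2, this]
    norm_num
  · left
    by_contra hne
    have hlt : p < q := by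
      refine lt_of_le_of_ne ?_ (Ne.symm hne)
      rw [hq]
      exact Nat.le_self_pow hf p
    -- the cofactor
    have h1 : (∑ i ∈ Finset.range f, p ^ i) * (p - 1) = p ^ f - 1 := by
      rw [Nat.geomSum_eq hp.two_le]
      exact Nat.div_mul_cancel (Nat.sub_one_dvd_pow_sub_one p f)
    set c := ∑ i ∈ Finset.range f, p ^ i with hc
    have hco : Odd c := by
      rw [hc, Finset.odd_sum_iff_odd_card_odd]
      have : (Finset.range f).filter (fun x => Odd (p ^ x)) = Finset.range f := by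
        apply Finset.filter_true_of_mem
        intro x _
        exact hpo.pow
      rw [this, Finset.card_range]
      exact hfo
    have hc1 : c ≠ 1 := by
      intro h2
      rw [h2, one_mul, ← hq] at h1
      have := hp.two_le
      omega
    obtain ⟨r, hr, hrc⟩ := Nat.exists_prime_and_dvd hc1
    have h2 : r ∣ 2 ^ k := by
      rw [← hk, hq, ← h1]
      exact hrc.mul_right _
    have h3 := (Nat.prime_dvd_prime_iff_eq hr Nat.prime_two).1 (hr.dvd_of_dvd_pow h2)
    rw [h3] at hrc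
    exact (Nat.not_even_iff_odd.2 hco) (even_iff_two_dvd.2 hrc)

namespace UA

variable {p f q d N E P : ℕ} (A : UA p f q d N E P)

include A

theorem podd : Odd p := A.hp.odd_of_ne_two A.hp2

theorem qodd : Odd q := by rw [A.hq]; exact A.podd.pow

theorem dvd_q : p ∣ q := by rw [A.hq]; exact dvd_pow_self p A.hf

theorem d13 : d = 1 ∨ d = 3 := by
  rcases A.hd with h | h
  · exact Or.inl h.1
  · exact Or.inr h.1

theorem hN' : d * N + q = q ^ 2 + 1 := by
  have h1 := A.hN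
  have h2 : q ≤ q ^ 2 := Nat.le_self_pow (by norm_num) q
  omega

theorem N_mod : N % 3 = 1 := by
  have hN := A.hN'
  rcases A.hd with ⟨h1, h2⟩ | ⟨h1, h2⟩
  · rw [h1, one_mul] at hN
    have h3 : q % 3 = 0 ∨ q % 3 = 1 := by omega
    have h4 : q ^ 2 % 3 = q % 3 := by
      rw [Nat.pow_mod]
      rcases h3 with h3 | h3 <;> rw [h3]
    omega
  · obtain ⟨j, hj⟩ : ∃ j, q = 3 * j + 2 := ⟨q / 3, by omega⟩
    rw [h1, hj] at hN
    have h3 : 3 * N = 3 * (3 * (j ^ 2 + j) + 1) := by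
      have h4 : (3 * j + 2) ^ 2 + 1 = 3 * (3 * (j ^ 2 + j) + 1) + (3 * j + 2) := by ring
      omega
    omega

theorem N_odd : Odd N := by
  obtain ⟨t, ht⟩ := A.qodd
  have h1 := A.hN'
  have h2 : Odd (d * N) := by
    have h3 : (2 * t + 1) ^ 2 + 1 = (2 * (2 * t ^ 2 + t) + 1) + (2 * t + 1) := by ring
    rw [ht] at h1
    exact ⟨2 * t ^ 2 + t, by omega⟩
  exact (Nat.odd_mul.1 h2).2

theorem N_one_lt : 1 < N := by
  have h1 := A.hN'
  have h7 := A.h7
  have h2 : 7 * q ≤ q ^ 2 := by nlinarith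
  rcases A.d13 with h3 | h3 <;> rw [h3] at h1 <;> omega

/-- a prime divisor of `N` -/
theorem prime_facts {r : ℕ} (hr : r.Prime) (h : r ∣ N) : r ≠ 2 ∧ r ≠ p ∧ ¬ r ∣ q - 1 ∧ ¬ r ∣ q + 1 := by
  have h7 := A.h7
  have hdN : r ∣ q ^ 2 - q + 1 := by rw [← A.hN]; exact h.mul_left _
  have hr3 : r ≠ 3 := by
    rintro rfl
    have := A.N_mod
    omega
  obtain ⟨t, rfl⟩ : ∃ t, q = t + 1 := ⟨q - 1, by omega⟩
  have e1 : (t + 1) ^ 2 - (t + 1) + 1 = t * (t + 1) + 1 := by
    have : (t + 1) ^ 2 = t * (t + 1) + (t + 1) := by ring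
    omega
  rw [e1] at hdN
  refine ⟨?_, ?_, ?_, ?_⟩
  · rintro rfl
    exact (Nat.not_even_iff_odd.2 A.N_odd) (even_iff_two_dvd.2 h)
  · rintro rfl
    exact hr.one_lt.ne' (Nat.dvd_one.1 ((Nat.dvd_add_right (A.dvd_q.mul_left t)).1 hdN))
  · intro h1
    rw [Nat.add_sub_cancel] at h1
    exact hr.one_lt.ne' (Nat.dvd_one.1 ((Nat.dvd_add_right (h1.mul_right (t + 1))).1 hdN))
  · intro h1
    have h2 : r ∣ t * (t + 1) + 1 + 2 * (t + 1 + 1) := dvd_add hdN (h1.mul_left 2)
    have h3 : t * (t + 1) + 1 + 2 * (t + 1 + 1) = (t + 1) * (t + 1 + 1) + 3 := by ring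
    rw [h3] at h2
    exact hr3 ((Nat.prime_dvd_prime_iff_eq hr Nat.prime_three).1 ((Nat.dvd_add_right (h1.mul_left _)).1 h2))

theorem sq_sub : q ^ 2 - 1 = (q - 1) * (q + 1) := by
  have h7 := A.h7
  obtain ⟨k, rfl⟩ : ∃ k, q = k + 1 := ⟨q - 1, by omega⟩
  have : (k + 1) ^ 2 = k * (k + 2) + 1 := by ring
  rw [this, Nat.add_sub_cancel, Nat.add_sub_cancel]

theorem om_iso {m r : ℕ} (h : UOm q N E P m) (hr : r.Prime) (hrN : r ∣ N) (hrm : r ∣ m) : m ∣ N := by
  obtain ⟨h1, h2, h3, h4⟩ := A.prime_facts hr hrN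
  rcases h with h | h | h | h
  · exact absurd (hrm.trans h) h4
  · exfalso
    have h5 : r ∣ p * (q + 1) := by
      rw [← A.hP]
      exact (hrm.trans h).mul_left _
    rcases hr.dvd_mul.1 h5 with h6 | h6
    · exact h2 ((Nat.prime_dvd_prime_iff_eq hr A.hp).1 h6)
    · exact h4 h6
  · exfalso
    have h5 : r ∣ (q - 1) * (q + 1) := by
      rw [← A.sq_sub, ← A.hE]
      exact (hrm.trans h).mul_left _
    rcases hr.dvd_mul.1 h5 with h6 | h6
    · exact h3 h6
    · exact h4 h6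
  · exact h

theorem p_not_dvd_sq : ¬ p ∣ q ^ 2 - 1 := by
  have h5 := A.h7
  intro h
  have h1 : p ∣ q ^ 2 := dvd_pow A.dvd_q (by norm_num)
  have h2 := Nat.dvd_sub h1 h
  have h3 : q ^ 2 - (q ^ 2 - 1) = 1 := by
    have : 1 ≤ q ^ 2 := Nat.one_le_pow _ _ (by omega)
    omega
  rw [h3] at h2
  exact A.hp.one_lt.ne' (Nat.dvd_one.1 h2)

theorem p_not_dvd_add : ¬ p ∣ q + 1 := by
  intro h
  apply A.p_not_dvd_sq
  rw [A.sq_sub]
  exact h.mul_left _

theorem p_not_dvd_E : ¬ p ∣ E := by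
  intro h
  apply A.p_not_dvd_sq
  rw [← A.hE]
  exact h.mul_left _

theorem p_not_dvd_N : ¬ p ∣ N := fun h => (A.prime_facts A.hp h).2.1 rfl

/-- multiples of `p` -/
theorem dvd_of_mul_p {k : ℕ} (h : UOm q N E P (p * k)) : d * k ∣ q + 1 := by
  rcases h with h | h | h | h
  · exact absurd ((dvd_mul_right p k).trans h) A.p_not_dvd_add
  · have h1 : d * (p * k) ∣ p * (q + 1) := by
      rw [← A.hP]
      exact mul_dvd_mul_left d h
    have h2 : d * (p * k) = p * (d * k) := by ring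
    rw [h2] at h1
    exact Nat.dvd_of_mul_dvd_mul_left A.hp.pos h1
  · exact absurd ((dvd_mul_right p k).trans h) A.p_not_dvd_E
  · exact absurd ((dvd_mul_right p k).trans h) A.p_not_dvd_N

theorem two_p_dvd_P : 2 * p ∣ P := by
  have h1 : Even (d * P) := by
    rw [A.hP]
    exact (A.qodd.add_one).mul_left _
  have h2 : 2 ∣ P := by
    rcases Nat.even_mul.1 h1 with h3 | h3
    · rcases A.d13 with h4 | h4 <;> rw [h4] at h3 <;> exact absurd h3 (by decide)
    · exact even_iff_two_dvd.1 h3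
  have h3 : p ∣ P := by
    have h4 : p ∣ d * P := by
      rw [A.hP]
      exact dvd_mul_right _ _
    rcases A.hp.dvd_mul.1 h4 with h5 | h5
    · exfalso
      rcases A.hd with ⟨h6, h7⟩ | ⟨h6, h7⟩
      · rw [h6] at h5
        exact A.hp.one_lt.ne' (Nat.dvd_one.1 h5)
      · rw [h6] at h5
        have h8 := (Nat.prime_dvd_prime_iff_eq A.hp Nat.prime_three).1 h5
        have h9 := A.dvd_q
        rw [h8] at h9
        omega
    · exact h5
  exact Nat.Coprime.mul_dvd_of_dvd_of_dvd ((Nat.coprime_primes Nat.prime_two A.hp).2 A.hp2.symm) h2 h3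

end UA

namespace UG

variable {G : Type*} [Group G] [Finite G] {p f q d N E P : ℕ} (H : UG G p f q d N E P)

include H

theorem om (g : G) : UOm q N E P (orderOf g) := (H.mem _).1 ⟨g, rfl⟩

theorem dvd_card {n : ℕ} (h : UOm q N E P n) : n ∣ Nat.card G := by
  obtain ⟨g, rfl⟩ := (H.mem n).2 h
  exact orderOf_dvd_natCard g

theorem iso {g : G} {r : ℕ} (hr : r.Prime) (hrN : r ∣ N) (h : r ∣ orderOf g) : orderOf g ∣ N :=
  H.A.om_iso (H.om g) hr hrN h

/-- **`G` is not solvable.** -/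
theorem not_solvable (h9 : q ≠ 9) : ¬ Group.IsSolvable G := by
  classical
  have A := H.A
  have h7 := A.h7
  by_cases hm : ∀ r : ℕ, r.Prime → r ∣ q - 1 → r = 2
  · -- Fermat primes
    have hk := Nat.eq_prime_pow_of_unique_prime_dvd (n := q - 1) (p := 2) (by omega) (fun {r} hr hrd => hm r hr hrd)
    set k := (q - 1).primeFactorsList.length with hkdef
    have hqp := (fermat_aux A.hp A.hp2 A.hf A.hq hk h7).resolve_right h9
    have hk3 : 3 ≤ k := by
      by_contra hlt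
      have : 2 ^ k ≤ 2 ^ 2 := Nat.pow_le_pow_right (by norm_num) (by omega)
      omega
    have h8 : 2 ^ 3 ∣ q - 1 := by
      rw [hk]
      exact pow_dvd_pow 2 hk3
    obtain ⟨j, hj⟩ := h8
    have hj1 : 1 ≤ j := by omega
    -- `d = 3`
    have hd : d = 3 := by
      rcases A.hd with ⟨h1, h2⟩ | ⟨h1, h2⟩
      · exfalso
        rcases Nat.even_or_odd' k with ⟨i, hi | hi⟩
        · have h6 : 2 ^ k % 3 = 1 := by
            rw [hi, pow_mul, Nat.pow_mod]
            norm_num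
          omega
        · have h6 : 2 ^ k % 3 = 2 := by
            rw [hi, pow_succ, pow_mul, Nat.mul_mod, Nat.pow_mod]
            norm_num
          have h10 : 3 ∣ q := by omega
          rw [hqp] at h10
          have h11 := (Nat.prime_dvd_prime_iff_eq Nat.prime_three A.hp).1 h10
          omega
      · exact h1
    have hE := A.hE
    have hP := A.hP
    have hN := A.hN'
    rw [hd] at hE hP hN
    have hw : q + 1 = 2 * (4 * j + 1) := by omega
    have hgcd : Nat.gcd (q + 1) (p - 1) = 2 := by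
      have h1 : p - 1 = 2 * (4 * j) := by omega
      rw [h1, hw, Nat.gcd_mul_left]
      have h2 : Nat.Coprime (4 * j + 1) (4 * j) := by
        rw [Nat.coprime_comm]
        exact (Nat.coprime_self_add_right).2 (Nat.coprime_one_right _)
      rw [h2, mul_one]
    have hno : ¬ UOm q N E P (p * 2 ^ k) := by
      intro h
      have h1 := A.dvd_of_mul_p h
      have h2 : 2 ^ 2 ∣ q + 1 := (pow_dvd_pow 2 (by omega : 2 ≤ k)).trans ((dvd_mul_left _ _).trans h1)
      obtain ⟨c, hc⟩ := h2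
      omega
    have hN3 : 3 * (N - 1) = (q - 2) * (q + 1) := by
      obtain ⟨t, rfl⟩ : ∃ t, q = t + 2 := ⟨q - 2, by omega⟩
      rw [Nat.add_sub_cancel, Nat.mul_sub]
      have : (t + 2) ^ 2 + 1 = t * (t + 2 + 1) + 3 + (t + 2) := by ring
      omega
    have h2E : 2 ^ (k + 1) ∣ E := by
      have h1 : 2 ^ (k + 1) ∣ 3 * E := by
        rw [hE, A.sq_sub, hk, pow_succ]
        exact mul_dvd_mul dvd_rfl ⟨4 * j + 1, hw⟩
      exact (Nat.Coprime.pow_left _ (by norm_num)).dvd_of_dvd_mul_left h1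
    refine not_isSolvable (n := N) (p := p) (a := k) (w := q + 1) A.hp (by omega)
      ((H.mem _).2 (Or.inr (Or.inr (Or.inr dvd_rfl))))
      A.N_one_lt A.N_odd (fun g r hr hrN hrg => H.iso hr hrN hrg)
      ((H.mem _).2 (Or.inr (Or.inl A.two_p_dvd_P))) ((H.mem _).2 (Or.inl dvd_rfl)) ⟨4 * j + 1, hw⟩ A.p_not_dvd_add
      ?_ ((H.mem _).2 (Or.inr (Or.inr (Or.inl h2E)))) (by omega) ?_ ?_ ?_
    · rw [hgcd, hw, Nat.mul_div_cancel_left _ (by norm_num)]
      intro h
      have h1 := A.dvd_of_mul_p ((H.mem _).1 h)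
      rw [hd, hw] at h1
      have h2 := Nat.le_of_dvd (by omega) h1
      omega
    · rw [mul_comm]
      exact fun h => hno ((H.mem _).1 h)
    · intro h
      have h1 : p ∣ (q - 2) * (q + 1) := by
        rw [← hN3]
        exact h.mul_left _
      rcases A.hp.dvd_mul.1 h1 with h2 | h2
      · have h3 : p ∣ 2 := by
          have h4 := Nat.dvd_sub A.dvd_q h2
          have h5 : q - (q - 2) = 2 := by omega
          rwa [h5] at h4
        exact A.hp2 ((Nat.prime_dvd_prime_iff_eq A.hp Nat.prime_two).1 h3)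
      · exact A.p_not_dvd_add h2
    · intro h
      have h1 : 4 ∣ (q - 2) * (q + 1) := by
        rw [← hN3]
        exact h.mul_left _
      have h2 : Nat.Coprime 4 (q - 2) := by
        have : (4 : ℕ) = 2 ^ 2 := by norm_num
        rw [this]
        exact Nat.Coprime.pow_left 2 (Nat.coprime_two_left.2 ⟨4 * j - 1, by omega⟩)
      obtain ⟨c, hc⟩ := h2.dvd_of_dvd_mul_left h1
      omega
  · push Not at hm
    obtain ⟨r1, hr, hrq, hr2⟩ := hm
    have hrp : r1 ≠ p := by
      rintro rfl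
      apply A.p_not_dvd_sq
      rw [A.sq_sub]
      exact hrq.mul_right _
    have hr1 : ¬ r1 ∣ q + 1 := by
      intro h2
      have h3 := Nat.dvd_sub h2 hrq
      have h4 : q + 1 - (q - 1) = 2 := by omega
      rw [h4] at h3
      exact hr2 ((Nat.prime_dvd_prime_iff_eq hr Nat.prime_two).1 h3)
    have hrN : ¬ r1 ∣ N := fun h => (A.prime_facts hr h).2.2.1 hrq
    have hrE : r1 ∣ E := by
      have h1 : r1 ∣ d * E := by
        rw [A.hE, A.sq_sub]
        exact hrq.mul_right _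
      rcases hr.dvd_mul.1 h1 with h2 | h2
      · exfalso
        rcases A.hd with ⟨h3, h4⟩ | ⟨h3, h4⟩
        · rw [h3] at h2
          exact hr.one_lt.ne' (Nat.dvd_one.1 h2)
        · rw [h3] at h2
          have h6 := (Nat.prime_dvd_prime_iff_eq hr Nat.prime_three).1 h2
          rw [h6] at hrq
          omega
      · exact h2
    obtain ⟨r, hrr, hrrN⟩ := Nat.exists_prime_and_dvd A.N_one_lt.ne'
    have hrp' : r ≠ p := (A.prime_facts hrr hrrN).2.1
    have hrr2 : r ≠ r1 := by rintro rfl; exact hrN hrrN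
    have hnot : ∀ s : ℕ, ¬ s ∣ N → ¬ UOm q N E P (s * r) := fun s hs h =>
      hs ((dvd_mul_right s r).trans (A.om_iso h hrr hrrN (dvd_mul_left r s)))
    have n1 : ¬ UOm q N E P (p * r1) := fun h => hr1 ((dvd_mul_left _ _).trans (A.dvd_of_mul_p h))
    have n2 : ¬ UOm q N E P (p * r) := hnot p A.p_not_dvd_N
    have n3 : ¬ UOm q N E P (r1 * r) := hnot r1 hrN
    have hco : ((∀ s ∈ ({p, r1, r} : Finset ℕ), s.Prime ∧ s ∣ Nat.card G) ∧ (∀ s ∈ ({p, r1, r} : Finset ℕ),
        ∀ t ∈ ({p, r1, r} : Finset ℕ), s ≠ t → ¬ ∃ x : G, orderOf x = s * t)) := by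
      constructor
      · intro s hs
        rw [Finset.mem_insert, Finset.mem_insert, Finset.mem_singleton] at hs
        rcases hs with rfl | rfl | rfl
        · exact ⟨A.hp, H.dvd_card (Or.inr (Or.inl ((dvd_mul_left _ _).trans A.two_p_dvd_P)))⟩
        · exact ⟨hr, H.dvd_card (Or.inr (Or.inr (Or.inl hrE)))⟩
        · exact ⟨hrr, H.dvd_card (Or.inr (Or.inr (Or.inr hrrN)))⟩
      · intro s hs t ht hst hx
        have hO := (H.mem _).1 hx
        rw [Finset.mem_insert, Finset.mem_insert, Finset.mem_singleton] at hs ht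
        rcases hs with rfl | rfl | rfl <;> rcases ht with rfl | rfl | rfl
        · exact hst rfl
        · exact n1 hO
        · exact n2 hO
        · exact n1 (by rwa [mul_comm])
        · exact hst rfl
        · exact n3 hO
        · exact n2 (by rwa [mul_comm])
        · exact n3 (by rwa [mul_comm])
        · exact hst rfl
    have hcard : 3 ≤ ({p, r1, r} : Finset ℕ).card := by
      rw [Finset.card_insert_of_notMem, Finset.card_insert_of_notMem, Finset.card_singleton]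
      · rw [Finset.mem_singleton]; exact hrr2.symm
      · rw [Finset.mem_insert, Finset.mem_singleton]
        push Not
        exact ⟨hrp.symm, hrp'.symm⟩
    exact (S3633.result (G := G) {p, r1, r} hcard hco (⊥ : Subgroup G) inferInstance).2

end UG

/-- the spectrum -/
theorem UG.of_spec {F : Type*} [Field F] [Fintype F] {q : ℕ} (hF : Fintype.card F = q ^ 2) (ho : Odd q)
    (h7 : 7 ≤ q) {G : Type*} [Group G]
    (h : Set.range (orderOf : G → ℕ) = Set.range (orderOf : PSU 3 F q → ℕ)) :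
    ∃ p f d N E P, UG G p f q d N E P := by
  obtain ⟨p, hp⟩ := CharP.exists F
  have hpf : Fact p.Prime := ⟨CharP.char_is_prime F p⟩
  obtain ⟨m, -, hm⟩ := FiniteField.card F p
  rw [hF] at hm
  obtain ⟨f, hf⟩ : ∃ f, q = p ^ f := by
    obtain ⟨f, -, hf⟩ := (Nat.dvd_prime_pow hpf.out).1 (hm ▸ dvd_pow_self q (by norm_num : 2 ≠ 0))
    exact ⟨f, hf⟩
  have hf0 : f ≠ 0 := by
    rintro rfl
    rw [pow_zero] at hf
    omega
  have hp2 : p ≠ 2 := by
    rintro rfl
    rw [hf] at ho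
    exact (Nat.not_even_iff_odd.2 ho) (even_iff_two_dvd.2 (dvd_pow_self 2 hf0))
  have hg1 : Nat.gcd 3 (q + 1) ∣ q + 1 := Nat.gcd_dvd_right _ _
  obtain ⟨t, ht⟩ : ∃ t, q = t + 1 := ⟨q - 1, by omega⟩
  have e1 : q ^ 2 - 1 = (q - 1) * (q + 1) := by
    rw [ht, Nat.add_sub_cancel]
    have : (t + 1) ^ 2 = t * (t + 1 + 1) + 1 := by ring
    omega
  have hd : (Nat.gcd 3 (q + 1) = 1 ∧ q % 3 ≠ 2) ∨ (Nat.gcd 3 (q + 1) = 3 ∧ q % 3 = 2) := by
    by_cases h3 : 3 ∣ q + 1
    · right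
      exact ⟨Nat.gcd_eq_left h3, by omega⟩
    · left
      exact ⟨(Nat.Prime.coprime_iff_not_dvd Nat.prime_three).2 h3, by omega⟩
  have hA : UA p f q (Nat.gcd 3 (q + 1)) ((q ^ 2 - q + 1) / Nat.gcd 3 (q + 1)) ((q ^ 2 - 1) / Nat.gcd 3 (q + 1))
      (p * (q + 1) / Nat.gcd 3 (q + 1)) := by
    refine ⟨hpf.out, hp2, hf0, hf, h7, hd, ?_, ?_, ?_⟩
    · apply Nat.mul_div_cancel'
      rcases hd with ⟨h1, -⟩ | ⟨h1, h2⟩
      · rw [h1]
        exact one_dvd _
      · rw [h1]
        obtain ⟨j, hj⟩ : ∃ j, q = 3 * j + 2 := ⟨q / 3, by omega⟩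
        rw [hj]
        refine ⟨3 * j ^ 2 + 3 * j + 1, ?_⟩
        have : (3 * j + 2) ^ 2 = 3 * (3 * j ^ 2 + 3 * j + 1) + (3 * j + 1) := by ring
        omega
    · apply Nat.mul_div_cancel'
      rw [e1]
      exact hg1.mul_left _
    · apply Nat.mul_div_cancel'
      exact hg1.mul_left _
  refine ⟨p, f, _, _, _, _, ⟨hA, ?_⟩⟩
  intro m
  have h1 := Set.ext_iff.1 (h.trans (S2366.result (F := F) p hp2 q hF)) m
  change (∃ g : G, orderOf g = m) ↔ _ at h1
  rw [h1]
  simp only [Set.mem_union, Set.mem_ofPred_eq]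
  unfold UOm
  tauto

end Cfsg.Agent.R2.Spec.X2
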