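import Cfsg.Agent.R2.Spec.Iface
import Cfsg.Agent.H403.Reduce
import Cfsg.Agent.S3441

/-!
# From a composition factor to quasirecognition (helper16)
-/

set_option autoImplicit false

namespace Cfsg.Agent.R2.Spec.X2

open Cfsg

universe u v

/-- `G` isomorphic to `L` -/
theorem qr_of_iso {G : Type u} [Group G] {L : Type v} [Group L] (e : G ≃* L) :
    ∃ (K H : Subgroup G) (_ : K.Normal) (_ : H.Normal), K ≤ H ∧ Group.IsSolvable ↥K ∧ Group.IsSolvable (G ⧸ H) ∧
      Nonempty (↥H ⧸ K.subgroupOf H ≃* L) := by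
  refine ⟨⊥, ⊤, inferInstance, inferInstance, bot_le, inferInstance, ?_, ?_⟩
  · have : Subsingleton (G ⧸ (⊤ : Subgroup G)) := QuotientGroup.subsingleton_quotient_top
    infer_instance
  · have e1 : (⊥ : Subgroup G).subgroupOf ⊤ = ⊥ := Subgroup.bot_subgroupOf _
    exact ⟨(QuotientGroup.quotientMulEquivOfEq e1).trans (QuotientGroup.quotientBot.trans
      (Subgroup.topEquiv.trans e))⟩

/-- the section `H / K` and the image of `H` in `G / K` -/
theorem section_equiv {G : Type*} [Group G] (K H : Subgroup G) [K.Normal] :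
    Nonempty (↥H ⧸ K.subgroupOf H ≃* ↥(H.map (QuotientGroup.mk' K))) := by
  let f : H →* H.map (QuotientGroup.mk' K) := (QuotientGroup.mk' K).subgroupMap H
  have hf : Function.Surjective f := (QuotientGroup.mk' K).subgroupMap_surjective H
  have hker : f.ker = K.subgroupOf H := by
    ext x
    rw [MonoidHom.mem_ker, Subgroup.mem_subgroupOf, Subtype.ext_iff]
    exact QuotientGroup.eq_one_iff (x : G)
  exact ⟨(QuotientGroup.quotientMulEquivOfEq hker.symm).trans (QuotientGroup.quotientKerEquivOfSurjective f hf)⟩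

/-- **Quasirecognition from one composition factor.** -/
theorem qr_of_section {G : Type u} [Group G] [Finite G] {L : Type v} [Group L] [Finite L] [IsSimpleGroup L]
    (hL : ¬ IsMulCommutative L) (h : Set.range (orderOf : G → ℕ) = Set.range (orderOf : L → ℕ))
    (hns : ¬ Group.IsSolvable G)
    (H : Subgroup G) (hH : H.IsSubnormal) (N : Subgroup ↥H) [N.Normal] (hs : IsSimpleGroup (↥H ⧸ N))
    (hna : ¬ IsMulCommutative (↥H ⧸ N)) (e : (↥H ⧸ N) ≃* L) :
    ∃ (K H : Subgroup G) (_ : K.Normal) (_ : H.Normal), K ≤ H ∧ Group.IsSolvable ↥K ∧ Group.IsSolvable (G ⧸ H) ∧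
      Nonempty (↥H ⧸ K.subgroupOf H ≃* L) := by
  obtain ⟨K, M, hK, hM, hKM, hKs, -, hSs, hSa, hSc, hcyc⟩ := S3441.result hns hL h
  have hsolv : Group.IsSolvable (G ⧸ M) := by
    let := IsCyclic.commGroup (α := G ⧸ M)
    infer_instance
  refine ⟨K, M, hK, hM, hKM, hKs, hsolv, ?_⟩
  obtain ⟨e1⟩ := section_equiv K M
  have hSn : (M.map (QuotientGroup.mk' K)).Normal := Subgroup.Normal.map hM _ (QuotientGroup.mk'_surjective K)
  have hSs' : IsSimpleGroup ↥(M.map (QuotientGroup.mk' K)) := e1.symm.isSimpleGroup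
  have hSa' : ¬ IsMulCommutative ↥(M.map (QuotientGroup.mk' K)) := by
    intro hc
    apply hSa
    refine ⟨⟨fun a b => ?_⟩⟩
    apply e1.injective
    rw [map_mul, map_mul, hc.is_comm.comm]
  have hsch : Schreier.Basic.Sch ↥(M.map (QuotientGroup.mk' K)) := Schreier.Assembly.known _ hSa' (S0000.result)
  obtain ⟨e2⟩ := H403.comp_iso K hKs (M.map (QuotientGroup.mk' K)) hSs' hsch hSc H hH N hs hna
  exact ⟨e1.trans (e2.symm.trans e)⟩

end Cfsg.Agent.R2.Spec.X2
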