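import Mathlib
import Cfsg.Agent.S3856
import Cfsg.Agent.S4001
import Cfsg.Agent.S3359
import Cfsg.Agent.H348.SolvableFPF
import Cfsg.Agent.H348.FPFZGroup
import Cfsg.Agent.H495.Frob
import Cfsg.Agent.H496.TwoFrob
import Cfsg.Agent.H375.Reduce

/-!
# Frobenius complements and 2-Frobenius groups: element orders (helper16)

* `zpowers_eq` : in a solvable group with a fixed-point-free action all elements of prime order `p ≥ 5` generate the
  same subgroup;
* `exists_mul` : if moreover `y` has order `p`, and `w` has order prime to `p` then there is an element of order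
  `p * (|w| / gcd(|w|, p - 1))`;
* `nonsolv_complement` : nonsolvable Frobenius complements have no elements of order 9, 16, 24;
* `not_isSolvable` : a criterion for nonsolvability.
-/

set_option autoImplicit false
set_option linter.unusedSectionVars false
set_option linter.unusedVariables false

namespace Cfsg.Agent.R2.Spec.X2

open Cfsg Cfsg.Agent.H348

/-- a normal subgroup of order `p` in a Z-group with a fixed-point-free action -/
theorem exists_normalized {G : Type*} [Group G] [Finite G] [IsZGroup G] (h : HasFPF G) {p : ℕ} (hp : p.Prime)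
    (hd : p ∣ Nat.card G) : ∃ y : G, orderOf y = p ∧ ∀ w : G, ∃ l : ℤ, w * y * w⁻¹ = y ^ l := by
  obtain ⟨x, y, r, hyN, hcl, hcard, hcop, hrel, hr1, hrc, hrn⟩ := zgroup_structure (G := G)
  have hn0 : 0 < orderOf x := orderOf_pos x
  have hm0 : 0 < orderOf y := orderOf_pos y
  rw [← hcard] at hd
  by_cases hpm : p ∣ orderOf y
  · refine ⟨y ^ (orderOf y / p), ?_, ?_⟩
    · rw [orderOf_pow_of_dvd (Nat.div_pos (Nat.le_of_dvd hm0 hpm) hp.pos).ne' (Nat.div_dvd_of_dvd hpm),
        Nat.div_div_self hpm hm0.ne']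
    · intro w
      have h1 : w * y * w⁻¹ ∈ Subgroup.zpowers y := by
        rw [hyN]
        refine Subgroup.Normal.conj_mem (inferInstance : (commutator G).Normal) y ?_ w
        rw [← hyN]
        exact Subgroup.mem_zpowers y
      obtain ⟨l, hl⟩ := h1
      refine ⟨l, ?_⟩
      rw [← conj_pow]
      change y ^ l = _ at hl
      rw [← hl, ← zpow_natCast, ← zpow_natCast, ← zpow_mul, ← zpow_mul, mul_comm]
  · have hpn : p ∣ orderOf x := (hp.dvd_mul.1 hd).resolve_right hpm
    have hpc := h.pow_condition hcop hrel hrn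
    set t := x ^ (orderOf x / p) with ht
    have hto : orderOf t = p := by
      rw [ht, orderOf_pow_of_dvd (Nat.div_pos (Nat.le_of_dvd hn0 hpn) hp.pos).ne' (Nat.div_dvd_of_dvd hpn),
        Nat.div_div_self hpn hn0.ne']
    have hty : t⁻¹ * y * t = y := by
      have h1 : t⁻¹ * y * t = y ^ (r ^ (orderOf x / p)) := conj_pow_of_rel hrel (orderOf x / p)
      rw [h1]
      conv_rhs => rw [← pow_one y]
      rw [pow_eq_pow_iff_modEq]
      -- `rad n ∣ n`, `n / rad n ∣ n / p`
      have h2 : (∏ q ∈ (orderOf x).primeFactors, q) ∣ orderOf x := Nat.prod_primeFactors_dvd _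
      have h3 : p ∣ ∏ q ∈ (orderOf x).primeFactors, q :=
        Finset.dvd_prod_of_mem _ (Nat.mem_primeFactors.2 ⟨hp, hpn, hn0.ne'⟩)
      obtain ⟨a, ha⟩ := h3
      obtain ⟨b, hb⟩ := h2
      have hab : orderOf x / p = (orderOf x / ∏ q ∈ (orderOf x).primeFactors, q) * a := by
        have hR : 0 < ∏ q ∈ (orderOf x).primeFactors, q :=
          Finset.prod_pos fun q hq => (Nat.prime_of_mem_primeFactors hq).pos
        have h4 : orderOf x / ∏ q ∈ (orderOf x).primeFactors, q = b :=
          Nat.div_eq_of_eq_mul_right hR hb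
        rw [h4]
        apply Nat.div_eq_of_eq_mul_right hp.pos
        calc orderOf x = (∏ q ∈ (orderOf x).primeFactors, q) * b := hb
          _ = p * a * b := by rw [ha]
          _ = _ := by ring
      rw [hab, pow_mul]
      have h5 : r ^ (orderOf x / ∏ q ∈ (orderOf x).primeFactors, q) ≡ 1 [MOD orderOf y] := hpc
      have h6 := h5.pow a
      rwa [one_pow] at h6
    have hcy : Commute t y := by
      have h1 : y * t = t * y := by
        calc y * t = t * (t⁻¹ * y * t) := by group
          _ = t * y := by rw [hty]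
      exact h1.symm
    have hcx : Commute t x := (Commute.refl x).pow_left _
    have hcent : t ∈ Subgroup.centralizer (Subgroup.closure {x, y} : Set G) := by
      rw [Subgroup.centralizer_closure, Subgroup.mem_centralizer_iff]
      rintro a (rfl | rfl)
      · exact hcx.symm
      · exact hcy.symm
    refine ⟨t, hto, fun w => ⟨1, ?_⟩⟩
    rw [hcl, Subgroup.mem_centralizer_iff] at hcent
    have h1 : w * t = t * w := hcent w (Subgroup.mem_top w)
    rw [h1, zpow_one, mul_inv_cancel_right]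

/-- powers of an automorphism given by an exponent -/
theorem conj_pow_zpow {G : Type*} [Group G] {w y : G} {l : ℤ} (h : w * y * w⁻¹ = y ^ l) (k : ℕ) :
    w ^ k * y * (w ^ k)⁻¹ = y ^ (l ^ k) := by
  induction k with
  | zero => simp
  | succ k ih =>
    have h1 : w ^ (k + 1) * y * (w ^ (k + 1))⁻¹ = w * (w ^ k * y * (w ^ k)⁻¹) * w⁻¹ := by
      rw [pow_succ']
      group
    rw [h1, ih, ← conj_zpow, h, ← zpow_mul, pow_succ']

/-- an element of order `p` normalizing a subgroup of order `p` centralizes it; generally `w ^ (p - 1)` centralizes it -/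
theorem commute_pow {G : Type*} [Group G] [Finite G] {p : ℕ} (hp : p.Prime) {w y : G} (hy : orderOf y = p) {l : ℤ}
    (h : w * y * w⁻¹ = y ^ l) : Commute (w ^ (p - 1)) y ∧ (orderOf w = p → Commute w y) := by
  have hf : Fact p.Prime := ⟨hp⟩
  have hl0 : ((l : ℤ) : ZMod p) ≠ 0 := by
    intro h0
    rw [ZMod.intCast_zmod_eq_zero_iff_dvd] at h0
    have h1 : y ^ l = 1 := orderOf_dvd_iff_zpow_eq_one.1 (by rw [hy]; exact h0)
    rw [h1] at h
    have h2 : y = 1 := by
      have : y = w⁻¹ * (w * y * w⁻¹) * w := by group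
      rw [this, h]
      group
    rw [h2, orderOf_one] at hy
    exact hp.one_lt.ne hy
  have key : ∀ k : ℕ, ((l : ℤ) : ZMod p) ^ k = 1 → Commute (w ^ k) y := by
    intro k hk
    have h1 := conj_pow_zpow h k
    have h2 : y ^ (l ^ k) = y := by
      have h3 : ((l ^ k - 1 : ℤ) : ZMod p) = 0 := by
        push_cast
        rw [hk, sub_self]
      rw [ZMod.intCast_zmod_eq_zero_iff_dvd] at h3
      have h4 : y ^ (l ^ k - 1) = 1 := orderOf_dvd_iff_zpow_eq_one.1 (by rw [hy]; exact h3)
      rw [zpow_sub, zpow_one, mul_inv_eq_one] at h4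
      exact h4
    rw [h2] at h1
    exact mul_inv_eq_iff_eq_mul.1 h1
  refine ⟨key _ (ZMod.pow_card_sub_one_eq_one hl0), ?_⟩
  intro hw
  have h1 : ((l : ℤ) : ZMod p) = 1 := by
    have h2 := conj_pow_zpow h p
    rw [← hw, pow_orderOf_eq_one, one_mul, inv_one, mul_one, hw] at h2
    have h3 : y ^ (l ^ p - 1) = 1 := by
      rw [zpow_sub, ← h2, zpow_one, mul_inv_cancel]
    have h4 : (orderOf y : ℤ) ∣ l ^ p - 1 := orderOf_dvd_iff_zpow_eq_one.2 h3
    rw [hy] at h4
    have h5 := (ZMod.intCast_zmod_eq_zero_iff_dvd (l ^ p - 1) p).2 h4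
    push_cast at h5
    rw [ZMod.pow_card] at h5
    exact sub_eq_zero.1 h5
  have h2 := key 1 (by rw [h1, one_pow])
  rwa [pow_one] at h2

/-- **elements of order `p ≥ 5`** -/
theorem zpowers_eq {C : Type*} [Group C] [Finite C] [Group.IsSolvable C] (h : HasFPF C) {p : ℕ} (hp : p.Prime)
    (hp5 : 5 ≤ p) {z z' : C} (hz : orderOf z = p) (hz' : orderOf z' = p) :
    Subgroup.zpowers z = Subgroup.zpowers z' := by
  obtain ⟨G₀, hn, ⟨f, hf⟩, hZ⟩ := h.solvable
  have hmem : ∀ z : C, orderOf z = p → z ∈ G₀ := by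
    intro z hz
    rw [← hf, MonoidHom.mem_ker, ← orderOf_eq_one_iff]
    have h1 : orderOf (f z) ∣ p := by rw [← hz]; exact orderOf_map_dvd f z
    have h2 : orderOf (f z) ∣ Nat.card (Equiv.Perm (Fin 4)) := orderOf_dvd_natCard _
    have h3 : Nat.card (Equiv.Perm (Fin 4)) = 24 := by
      rw [Nat.card_eq_fintype_card, Fintype.card_perm, Fintype.card_fin]
      rfl
    rw [h3] at h2
    rcases (Nat.dvd_prime hp).1 h1 with h4 | h4
    · exact h4
    · exfalso
      rw [h4] at h2
      have h5 : (24 : ℕ) = 2 ^ 3 * 3 := by norm_num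
      rw [h5] at h2
      rcases hp.dvd_mul.1 h2 with h6 | h6
      · have := (Nat.prime_dvd_prime_iff_eq hp Nat.prime_two).1 (hp.dvd_of_dvd_pow h6)
        omega
      · have := (Nat.prime_dvd_prime_iff_eq hp Nat.prime_three).1 h6
        omega
  have h0 := h.subgroup G₀
  have hpG : p ∣ Nat.card G₀ := by
    have h1 := orderOf_dvd_natCard (⟨z, hmem z hz⟩ : G₀)
    rwa [Subgroup.orderOf_mk, hz] at h1
  obtain ⟨y, hy, hyn⟩ := exists_normalized h0 hp hpG
  have key : ∀ z : C, ∀ hz : orderOf z = p, Subgroup.zpowers (⟨z, hmem z hz⟩ : G₀) = Subgroup.zpowers y := by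
    intro z hz
    have hzo : orderOf (⟨z, hmem z hz⟩ : G₀) = p := by rw [Subgroup.orderOf_mk, hz]
    obtain ⟨l, hl⟩ := hyn ⟨z, hmem z hz⟩
    have hc := (commute_pow hp hy hl).2 hzo
    exact h0.zpowers_eq hc (hzo.trans hy.symm)
  have h1 := (key z hz).trans (key z' hz').symm
  have h2 := congrArg (Subgroup.map G₀.subtype) h1
  rw [MonoidHom.map_zpowers, MonoidHom.map_zpowers] at h2
  exact h2

/-- **elements of composite order in solvable Frobenius complements** -/
theorem exists_mul {C : Type*} [Group C] [Finite C] [Group.IsSolvable C] (h : HasFPF C) {p : ℕ} (hp : p.Prime)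
    (hp5 : 5 ≤ p) {y w : C} (hy : orderOf y = p) (hw : ¬ p ∣ orderOf w) :
    ∃ z : C, orderOf z = p * (orderOf w / Nat.gcd (orderOf w) (p - 1)) := by
  have h1 : orderOf (w * y * w⁻¹) = p := by
    rw [← hy]
    exact MulEquiv.orderOf_eq (MulAut.conj w) y
  have h2 : w * y * w⁻¹ ∈ Subgroup.zpowers y := by
    rw [← zpowers_eq h hp hp5 h1 hy]
    exact Subgroup.mem_zpowers _
  obtain ⟨l, hl⟩ := h2
  have hc := (commute_pow hp hy hl.symm).1
  have hp1 : p - 1 ≠ 0 := by omega
  have ho : orderOf (w ^ (p - 1)) = orderOf w / Nat.gcd (orderOf w) (p - 1) := orderOf_pow' w hp1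
  have hcop : Nat.Coprime (orderOf (w ^ (p - 1))) (orderOf y) := by
    rw [hy, Nat.coprime_comm, Nat.Prime.coprime_iff_not_dvd hp, ho]
    intro hd
    exact hw (hd.trans (Nat.div_dvd_of_dvd (Nat.gcd_dvd_left _ _)))
  refine ⟨w ^ (p - 1) * y, ?_⟩
  rw [hc.orderOf_mul_eq_mul_orderOf_of_coprime hcop, ho, hy, mul_comm]

/-- Frobenius complements act fixed-point-freely (any universe) -/
theorem hasFPF_complement {G : Type*} [Group G] [Finite G] {C : Subgroup G} (hC : IsFrobeniusComplement C) :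
    HasFPF C := by
  let f : G ≃* Shrink.{0} G := Shrink.mulEquiv.symm
  have hfin : Finite (Shrink.{0} G) := Finite.of_equiv G f.toEquiv
  exact hasFPF_of_exists ⟨Shrink.{0} G, inferInstance, hfin, C.map f.toMonoidHom,
    H495.Frob.isFrobeniusComplement_map f hC, ⟨C.equivMapOfInjective f.toMonoidHom f.injective⟩⟩

open Cfsg.Agent.PermutationGroups.AutSL25 in
theorem SL25_eight : ∀ x : SL25, x ^ 8 = 1 → x ^ 4 = 1 := by decide +kernel

open Cfsg.Agent.PermutationGroups.AutSL25 in
theorem SL25_nine : ∀ x : SL25, x ^ 9 = 1 → x ^ 3 = 1 := by decide +kernel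

open Cfsg.Agent.PermutationGroups.AutSL25 in
theorem SL25_twelve : ∀ x : SL25, x ^ 12 = 1 → x ^ 4 = 1 ∨ x ^ 6 = 1 := by decide +kernel

open Matrix in
/-- **Nonsolvable Frobenius complements**: no elements of order 9, 16, 24; the order is divisible by 30; elements of order
`3 s`. -/
theorem nonsolv_complement {G : Type*} [Group G] [Finite G] {C : Subgroup G} (hC : IsFrobeniusComplement C)
    (hns : ¬ Group.IsSolvable C) : 30 ∣ Nat.card C ∧ (¬ ∃ x : C, orderOf x = 9) ∧ (¬ ∃ x : C, orderOf x = 16) ∧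
      (¬ ∃ x : C, orderOf x = 24) ∧ ∀ s : ℕ, s.Prime → 7 ≤ s → s ∣ Nat.card C → ∃ x : C, orderOf x = 3 * s := by
  classical
  let f : G ≃* Shrink.{0} G := Shrink.mulEquiv.symm
  have hfin : Finite (Shrink.{0} G) := Finite.of_equiv G f.toEquiv
  obtain ⟨G₀, hG₀, hidx, S, M, hSM, hinf, hcomm, ⟨e⟩, -, hcop⟩ :=
    Cfsg.Agent.S3359.result (G := C) hns
      ⟨Shrink.{0} G, inferInstance, hfin, C.map f.toMonoidHom, H495.Frob.isFrobeniusComplement_map f hC,
        ⟨C.equivMapOfInjective f.toMonoidHom f.injective⟩⟩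
  have hS : Nat.card S = 120 := by
    rw [Nat.card_congr e.toEquiv]
    exact Cfsg.Agent.PermutationGroups.AutSL25.natCard
  have hG0 : Nat.card G₀ = 120 * Nat.card M := by
    rw [← hSM, Cfsg.Agent.OddOrderLocal.CommProd.card_sup_of_comm hcomm hinf, hS]
  have h5 : 30 ∣ Nat.card C := by
    refine dvd_trans ?_ (Subgroup.card_subgroup_dvd_card G₀)
    rw [hG0]
    exact Dvd.dvd.mul_right (by norm_num) _
  have key : ∀ x : C, (∀ r : ℕ, r.Prime → r ∣ orderOf x → r ∣ 30) →
      ∃ s : Matrix.SpecialLinearGroup (Fin 2) (ZMod 5), orderOf s = orderOf (x ^ 2) := by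
    intro x hx
    have h1 : x ^ 2 ∈ G₀ := by
      have h2 := Subgroup.pow_index_mem G₀ x
      rcases hidx with h3 | h3
      · rw [h3, pow_one] at h2
        exact G₀.pow_mem h2 2
      · rwa [h3] at h2
    rw [← hSM, Cfsg.Agent.OddOrderLocal.CommProd.mem_sup_of_comm hcomm] at h1
    obtain ⟨s, hs, m, hm, hsm⟩ := h1
    have hc : Commute s m := hcomm s hs m hm
    have hcopM : Nat.Coprime (orderOf (x ^ 2)) (Nat.card M) := by
      refine Nat.Coprime.coprime_dvd_left (orderOf_pow_dvd 2) ?_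
      refine Nat.coprime_of_dvd fun r hr h3 h4 => ?_
      exact hr.one_lt.ne' (Nat.eq_one_of_dvd_coprimes hcop h4 (hx r hr h3))
    have h3 : (x ^ 2) ^ Nat.card M = s ^ Nat.card M := by
      rw [hsm, hc.mul_pow]
      have : m ^ Nat.card M = 1 := by
        have := pow_card_eq_one' (x := (⟨m, hm⟩ : M))
        exact congrArg Subtype.val this
      rw [this, mul_one]
    have h4 : orderOf ((x ^ 2) ^ Nat.card M) = orderOf (x ^ 2) := Nat.Coprime.orderOf_pow hcopM
    have h5 : s ^ Nat.card M ∈ S := S.pow_mem hs _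
    refine ⟨e ⟨s ^ Nat.card M, h5⟩, ?_⟩
    rw [MulEquiv.orderOf_eq, Subgroup.orderOf_mk, ← h3, h4]
  refine ⟨h5, ?_, ?_, ?_, ?_⟩
  · rintro ⟨x, hx⟩
    obtain ⟨s, hs⟩ := key x (by
      intro r hr hd
      rw [hx] at hd
      have h9 : (9 : ℕ) = 3 ^ 2 := by norm_num
      rw [h9] at hd
      rw [(Nat.prime_dvd_prime_iff_eq hr Nat.prime_three).1 (hr.dvd_of_dvd_pow hd)]
      norm_num)
    have h1 : orderOf s = 9 := by
      rw [hs, orderOf_pow' x (by norm_num), hx]
      norm_num
    have h2 := SL25_nine s (by rw [← h1]; exact pow_orderOf_eq_one s)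
    have h3 := orderOf_dvd_of_pow_eq_one h2
    rw [h1] at h3
    norm_num at h3
  · rintro ⟨x, hx⟩
    obtain ⟨s, hs⟩ := key x (by
      intro r hr hd
      rw [hx] at hd
      have h9 : (16 : ℕ) = 2 ^ 4 := by norm_num
      rw [h9] at hd
      rw [(Nat.prime_dvd_prime_iff_eq hr Nat.prime_two).1 (hr.dvd_of_dvd_pow hd)]
      norm_num)
    have h1 : orderOf s = 8 := by
      rw [hs, orderOf_pow' x (by norm_num), hx]
      norm_num
    have h2 := SL25_eight s (by rw [← h1]; exact pow_orderOf_eq_one s)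
    have h3 := orderOf_dvd_of_pow_eq_one h2
    rw [h1] at h3
    norm_num at h3
  · rintro ⟨x, hx⟩
    obtain ⟨s, hs⟩ := key x (by
      intro r hr hd
      rw [hx] at hd
      have h9 : (24 : ℕ) = 2 ^ 3 * 3 := by norm_num
      rw [h9] at hd
      rcases hr.dvd_mul.1 hd with hd | hd
      · rw [(Nat.prime_dvd_prime_iff_eq hr Nat.prime_two).1 (hr.dvd_of_dvd_pow hd)]
        norm_num
      · rw [(Nat.prime_dvd_prime_iff_eq hr Nat.prime_three).1 hd]
        norm_num)
    have h1 : orderOf s = 12 := by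
      rw [hs, orderOf_pow' x (by norm_num), hx]
      norm_num
    rcases SL25_twelve s (by rw [← h1]; exact pow_orderOf_eq_one s) with h2 | h2
    · have h3 := orderOf_dvd_of_pow_eq_one h2
      rw [h1] at h3
      norm_num at h3
    · have h3 := orderOf_dvd_of_pow_eq_one h2
      rw [h1] at h3
      norm_num at h3
  · intro s hs hs7 hsC
    have h1 : s ∣ 240 * Nat.card M := by
      have h2 := Subgroup.card_mul_index G₀
      rw [← h2, hG0] at hsC
      rcases hidx with h | h
      · rw [h, mul_one] at hsC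
        exact hsC.trans (mul_dvd_mul_right (by norm_num) _)
      · rw [h, mul_right_comm] at hsC
        exact hsC
    have h2 : s ∣ Nat.card M := by
      rcases hs.dvd_mul.1 h1 with h2 | h2
      · exfalso
        have e240 : 240 = 2 ^ 4 * 3 * 5 := by norm_num
        rw [e240] at h2
        rcases hs.dvd_mul.1 h2 with h3 | h3
        · rcases hs.dvd_mul.1 h3 with h4 | h4
          · have := (Nat.prime_dvd_prime_iff_eq hs Nat.prime_two).1 (hs.dvd_of_dvd_pow h4)
            omega
          · have := (Nat.prime_dvd_prime_iff_eq hs Nat.prime_three).1 h4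
            omega
        · have := (Nat.prime_dvd_prime_iff_eq hs Nat.prime_five).1 h3
          omega
      · exact h2
    have hsf : Fact s.Prime := ⟨hs⟩
    obtain ⟨m, hm⟩ := exists_prime_orderOf_dvd_card' (G := M) s h2
    have hm' : orderOf (m : C) = s := by rw [Subgroup.orderOf_coe, hm]
    have hcs : Nat.Coprime 3 s := (Nat.coprime_primes Nat.prime_three hs).2 (by omega)
    have h3f : Fact (Nat.Prime 3) := ⟨Nat.prime_three⟩
    obtain ⟨z, hz⟩ := exists_prime_orderOf_dvd_card' (G := S) 3 (by rw [hS]; norm_num)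
    have h3 : orderOf (z : C) = 3 := by rw [Subgroup.orderOf_coe, hz]
    have h4 : Commute (z : C) (m : C) := hcomm _ z.2 _ m.2
    refine ⟨(z : C) * (m : C), ?_⟩
    rw [h4.orderOf_mul_eq_mul_orderOf_of_coprime (by rw [h3, hm']; exact hcs), h3, hm']

/-- **2-Frobenius groups** -/
theorem two_frob_data {G : Type*} [Group G] [Finite G] (H K : Subgroup G) [H.Normal] [K.Normal] (hlt : H < K)
    (hK : ∃ C : Subgroup ↥K, IsFrobeniusComplement C ∧ frobeniusKernel C = (H.subgroupOf K : Set ↥K))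
    (hGH : ∃ C : Subgroup (G ⧸ H), IsFrobeniusComplement C ∧
      frobeniusKernel C = (K.map (QuotientGroup.mk' H) : Set (G ⧸ H))) :
    Group.IsNilpotent H ∧ IsCyclic (↥K ⧸ H.subgroupOf K) ∧
      Nat.card (↥K ⧸ H.subgroupOf K) % Nat.card (G ⧸ K) = 1 % Nat.card (G ⧸ K) := by
  obtain ⟨C, hC, hCk⟩ := hK
  obtain ⟨D, hD, hDk⟩ := hGH
  set N : Subgroup K := H.subgroupOf K with hN
  set M : Subgroup (G ⧸ H) := K.map (QuotientGroup.mk' H) with hM
  obtain ⟨hNn, hNnil, hNc, hNne, hNf, hNcop⟩ := H496.TwoFrob.basic hC hCk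
  obtain ⟨hMn, hMnil, hMc, hMne, hMf, hMcop⟩ := H496.TwoFrob.basic hD hDk
  have e0 : Nonempty (K ⧸ N ≃* M) := by
    let f : K →* M := (QuotientGroup.mk' H).subgroupMap K
    have hf : Function.Surjective f := (QuotientGroup.mk' H).subgroupMap_surjective K
    have hker : f.ker = N := by
      ext x
      rw [MonoidHom.mem_ker, hN, Subgroup.mem_subgroupOf, Subtype.ext_iff]
      exact QuotientGroup.eq_one_iff (x : G)
    exact ⟨(QuotientGroup.quotientMulEquivOfEq hker.symm).trans
      (QuotientGroup.quotientKerEquivOfSurjective f hf)⟩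
  obtain ⟨e0⟩ := e0
  have e1 : K ⧸ N ≃* C := hNc.symm.QuotientMulEquiv
  have e2 : (G ⧸ H) ⧸ M ≃* D := hMc.symm.QuotientMulEquiv
  have e3 : (G ⧸ H) ⧸ M ≃* G ⧸ K := QuotientGroup.quotientQuotientEquivQuotient H K hlt.le
  have e4 : C ≃* M := e1.symm.trans e0
  have e5 : N ≃* H := Subgroup.subgroupOfEquivOfLe hlt.le
  have hodd : Odd (Nat.card C) := H496.TwoFrob.odd_of_kernel hC hCk hD hDk e4
  have hCnil : Group.IsNilpotent C := Group.nilpotent_of_mulEquiv e4.symm
  have hHnil : Group.IsNilpotent H := Group.nilpotent_of_mulEquiv e5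
  have hCcyc : IsCyclic C := H496.TwoFrob.isCyclic_of_odd hC hCk hCnil hodd
  refine ⟨hHnil, isCyclic_of_surjective e1.symm e1.symm.surjective, ?_⟩
  have h1 := (Cfsg.Agent.S0034.result D hD).2
  have h2 : D.index = Nat.card M := hMc.index_eq_card
  have hcM : Nat.card (K ⧸ N) = Nat.card M := Nat.card_congr e0.toEquiv
  have hcD : Nat.card (G ⧸ K) = Nat.card D := Nat.card_congr (e3.symm.trans e2).toEquiv
  rw [hcM, hcD, ← h2]
  exact h1

end Cfsg.Agent.R2.Spec.X2
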