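import Cfsg.Agent.R2.Spec.X2.LWin

/-!
# The spectrum of `PSL_3(q)`, `q` odd, as a window (helper16)
-/

set_option autoImplicit false

namespace Cfsg.Agent.R2.Spec.X2

open Cfsg Cfsg.Agent.H360.Iso

/-- the arithmetic of `PSL_3(q)`, `q = p ^ f` odd -/
structure LA (p f q d N E P : ℕ) : Prop where
  hp : p.Prime
  hp2 : p ≠ 2
  hf : f ≠ 0
  hq : q = p ^ f
  h5 : 5 ≤ q
  hd : (d = 1 ∧ q % 3 ≠ 1) ∨ (d = 3 ∧ q % 3 = 1)
  hN : d * N = q ^ 2 + q + 1
  hE : d * E = q ^ 2 - 1
  hP : d * P = p * (q - 1)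

namespace LA

variable {p f q d N E P : ℕ} (A : LA p f q d N E P)

include A

theorem podd : Odd p := A.hp.odd_of_ne_two A.hp2

theorem qodd : Odd q := by rw [A.hq]; exact A.podd.pow

theorem dvd_q : p ∣ q := by rw [A.hq]; exact dvd_pow_self p A.hf

theorem p_le : p ≤ q := Nat.le_of_dvd (by have := A.h5; omega) A.dvd_q

theorem p3 : 3 ≤ p := by
  obtain ⟨s, hs⟩ := A.podd
  have := A.hp.two_le
  omega

theorem p_cases : p = q ∨ p ^ 2 ≤ q := by
  by_cases h : f = 1
  · left; rw [A.hq, h, pow_one]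
  · right
    rw [A.hq]
    exact Nat.pow_le_pow_right A.hp.pos (by have := A.hf; omega)

theorem d13 : d = 1 ∨ d = 3 := by
  rcases A.hd with h | h
  · exact Or.inl h.1
  · exact Or.inr h.1

theorem dpos : 0 < d := by rcases A.d13 with h | h <;> omega

/-- `q = t + 1`, `t` even -/
theorem exists_t : ∃ t : ℕ, q = 2 * t + 1 ∧ 2 ≤ t ∧ d * N = 4 * t ^ 2 + 6 * t + 3 ∧ d * E = 4 * t ^ 2 + 4 * t ∧
    d * P = p * (2 * t) := by
  obtain ⟨t, ht⟩ := A.qodd
  have h5 := A.h5
  refine ⟨t, ht, by omega, ?_, ?_, ?_⟩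
  · rw [A.hN, ht]; ring
  · rw [A.hE, ht]
    have : (2 * t + 1) ^ 2 = 4 * t ^ 2 + 4 * t + 1 := by ring
    omega
  · rw [A.hP, ht, Nat.add_sub_cancel]

theorem N_mod : N % 3 = 1 := by
  have hN := A.hN
  rcases A.hd with ⟨h1, h2⟩ | ⟨h1, h2⟩
  · rw [h1, one_mul] at hN
    have h3 : q % 3 = 0 ∨ q % 3 = 2 := by omega
    rw [hN, Nat.add_mod, Nat.add_mod (q ^ 2), Nat.pow_mod]
    rcases h3 with h3 | h3 <;> rw [h3]
  · obtain ⟨j, hj⟩ : ∃ j, q = 3 * j + 1 := ⟨q / 3, by omega⟩
    rw [h1, hj] at hN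
    have h3 : 3 * N = 3 * (3 * (j ^ 2 + j) + 1) := by rw [hN]; ring
    omega

theorem N_odd : Odd N := by
  obtain ⟨t, -, -, h1, -, -⟩ := A.exists_t
  have h2 : Odd (d * N) := by
    rw [h1]
    exact ⟨2 * t ^ 2 + 3 * t + 1, by ring⟩
  exact (Nat.odd_mul.1 h2).2

/-- a prime divisor of `N` -/
theorem prime_facts {r : ℕ} (hr : r.Prime) (h : r ∣ N) :
    r ≠ 2 ∧ r ≠ 3 ∧ r ≠ p ∧ ¬ r ∣ q - 1 ∧ ¬ r ∣ q + 1 := by
  have h5 := A.h5
  have hdN : r ∣ q ^ 2 + q + 1 := by rw [← A.hN]; exact h.mul_left _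
  have hr3 : r ≠ 3 := by
    rintro rfl
    have := A.N_mod
    omega
  refine ⟨?_, hr3, ?_, ?_, ?_⟩
  · rintro rfl
    exact (Nat.not_even_iff_odd.2 A.N_odd) (even_iff_two_dvd.2 h)
  · rintro rfl
    have h1 : r ∣ q ^ 2 + q := dvd_add (dvd_pow A.dvd_q (by norm_num)) A.dvd_q
    exact hr.one_lt.ne' (Nat.dvd_one.1 ((Nat.dvd_add_right h1).1 hdN))
  · intro h1
    obtain ⟨k, rfl⟩ : ∃ k, q = k + 1 := ⟨q - 1, by omega⟩
    rw [Nat.add_sub_cancel] at h1
    have e : (k + 1) ^ 2 + (k + 1) + 1 = k * (k + 3) + 3 := by ring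
    rw [e] at hdN
    have h2 := (Nat.dvd_add_right (dvd_mul_of_dvd_left h1 (k + 3))).1 hdN
    exact hr3 ((Nat.prime_dvd_prime_iff_eq hr Nat.prime_three).1 h2)
  · intro h1
    have e : q ^ 2 + q + 1 = q * (q + 1) + 1 := by ring
    rw [e] at hdN
    exact hr.one_lt.ne' (Nat.dvd_one.1 ((Nat.dvd_add_right (dvd_mul_of_dvd_right h1 q)).1 hdN))

theorem sq_sub : q ^ 2 - 1 = (q - 1) * (q + 1) := by
  have h5 := A.h5
  obtain ⟨k, rfl⟩ : ∃ k, q = k + 1 := ⟨q - 1, by omega⟩
  have : (k + 1) ^ 2 = k * (k + 2) + 1 := by ring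
  rw [this, Nat.add_sub_cancel, Nat.add_sub_cancel]

/-- a prime divisor of `N` does not divide the others -/
theorem prime_facts' {r : ℕ} (hr : r.Prime) (h : r ∣ N) : ¬ r ∣ E ∧ ¬ r ∣ P ∧ ¬ r ∣ q - 1 := by
  obtain ⟨-, -, h3, h4, h5⟩ := A.prime_facts hr h
  refine ⟨?_, ?_, h4⟩
  · intro h1
    have h2 : r ∣ (q - 1) * (q + 1) := by
      rw [← A.sq_sub, ← A.hE]
      exact h1.mul_left _
    rcases hr.dvd_mul.1 h2 with h6 | h6
    · exact h4 h6
    · exact h5 h6
  · intro h1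
    have h2 : r ∣ p * (q - 1) := by
      rw [← A.hP]
      exact h1.mul_left _
    rcases hr.dvd_mul.1 h2 with h6 | h6
    · exact h3 ((Nat.prime_dvd_prime_iff_eq hr A.hp).1 h6)
    · exact h4 h6

theorem prime_mod {r : ℕ} (hr : r.Prime) (h : r ∣ N) : r % 3 = 1 := by
  have hf : Fact r.Prime := ⟨hr⟩
  obtain ⟨h2, h3, h4, h5, h6⟩ := A.prime_facts hr h
  have h0 := A.h5
  have hdN : r ∣ q ^ 2 + q + 1 := by rw [← A.hN]; exact h.mul_left _
  have e0 : ((q : ZMod r)) ^ 2 + q + 1 = 0 := by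
    have := (ZMod.natCast_eq_zero_iff (q ^ 2 + q + 1) r).2 hdN
    push_cast at this
    exact this
  have e1 : ((q : ZMod r)) ^ 3 = 1 := by linear_combination ((q : ZMod r) - 1) * e0
  have e2 : ((q : ZMod r)) ≠ 1 := by
    intro h7
    apply h5
    rw [← ZMod.natCast_eq_zero_iff, Nat.cast_sub (by omega), h7]
    simp
  have h7 : orderOf ((q : ZMod r)) = 3 := by
    have : Fact (Nat.Prime 3) := ⟨Nat.prime_three⟩
    exact orderOf_eq_prime e1 e2
  have h8 : ((q : ZMod r)) ^ (r - 1) = 1 := by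
    apply ZMod.pow_card_sub_one_eq_one
    intro h9
    rw [h9, zero_pow (by norm_num)] at e1
    exact zero_ne_one e1
  have h10 : 3 ∣ r - 1 := by
    rw [← h7]
    exact orderOf_dvd_of_pow_eq_one h8
  have := hr.two_le
  omega

theorem N_big (h7 : q ≠ 7) : 31 ≤ N := by
  obtain ⟨t, ht, ht2, h1, -, -⟩ := A.exists_t
  rcases A.hd with ⟨h2, -⟩ | ⟨h2, h3⟩
  · rw [h2, one_mul] at h1
    nlinarith
  · have ht6 : 6 ≤ t := by
      have h4 : q ≠ 11 := by omega
      have h5 : q ≠ 9 := by omega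
      omega
    rw [h2] at h1
    nlinarith

theorem N_gt : 19 ≤ N := by
  by_cases h7 : q = 7
  · rcases A.hd with ⟨h2, h3⟩ | ⟨h2, h3⟩
    · omega
    · have := A.hN
      rw [h2, h7] at this
      omega
  · have := A.N_big h7
    omega

/-- `E < N`, `P < N`, `2 (q - 1) ≤ N` -/
theorem two_mul_sub_le : 2 * (q - 1) ≤ N := by
  obtain ⟨t, ht, ht2, h1, -, -⟩ := A.exists_t
  rw [ht, Nat.add_sub_cancel]
  rcases A.d13 with h2 | h2
  · rw [h2, one_mul] at h1
    nlinarith
  · rw [h2] at h1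
    nlinarith

theorem E_even : Even E := by
  obtain ⟨t, -, -, -, h1, -⟩ := A.exists_t
  have h2 : Even (d * E) := by
    rw [h1]
    exact ⟨2 * t ^ 2 + 2 * t, by ring⟩
  rcases Nat.even_mul.1 h2 with h3 | h3
  · rcases A.d13 with h4 | h4 <;> rw [h4] at h3 <;> exact absurd h3 (by decide)
  · exact h3

theorem P_even : Even P := by
  obtain ⟨t, -, -, -, -, h1⟩ := A.exists_t
  have h2 : Even (d * P) := by
    rw [h1]
    exact ⟨p * t, by ring⟩
  rcases Nat.even_mul.1 h2 with h3 | h3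
  · rcases A.d13 with h4 | h4 <;> rw [h4] at h3 <;> exact absurd h3 (by decide)
  · exact h3

theorem E_pos : 0 < E := by
  obtain ⟨t, -, ht, -, h1, -⟩ := A.exists_t
  rcases Nat.eq_zero_or_pos E with h | h
  · rw [h, mul_zero] at h1
    nlinarith
  · exact h

theorem P_pos : 0 < P := by
  obtain ⟨t, -, ht, -, -, h1⟩ := A.exists_t
  have hp := A.hp.pos
  rcases Nat.eq_zero_or_pos P with h | h
  · rw [h, mul_zero] at h1
    nlinarith
  · exact h

/-- `N - E = (q + 2) / d` -/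
theorem E_delta : ∃ δ, E + δ = N ∧ d * δ = q + 2 := by
  obtain ⟨t, ht, ht2, h1, h2, -⟩ := A.exists_t
  have h3 : d * N = d * E + (q + 2) := by rw [h1, h2, ht]; ring
  have h4 : E ≤ N := by
    refine Nat.le_of_mul_le_mul_left ?_ A.dpos
    omega
  refine ⟨N - E, by omega, ?_⟩
  rw [Nat.mul_sub]
  omega

/-- `N - P = (2 q + 1) / d` for `p = q` -/
theorem P_delta (hpq : p = q) : ∃ δ, P + δ = N ∧ d * δ = 2 * q + 1 := by
  obtain ⟨t, ht, ht2, h1, -, h2⟩ := A.exists_t
  have h3 : d * N = d * P + (2 * q + 1) := by rw [h1, h2, hpq, ht]; ring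
  have h4 : P ≤ N := by
    refine Nat.le_of_mul_le_mul_left ?_ A.dpos
    omega
  refine ⟨N - P, by omega, ?_⟩
  rw [Nat.mul_sub]
  omega

theorem P_small (hpq : p ≠ q) : 2 * P ≤ N := by
  have h0 := A.p_cases.resolve_left hpq
  have h3 := A.p3
  obtain ⟨t, ht, ht2, h1, -, h2⟩ := A.exists_t
  have h4 : 3 * p ≤ q := by nlinarith
  have h5 : d * (2 * P) ≤ d * N := by
    have : d * (2 * P) = 2 * (d * P) := by ring
    rw [this, h1, h2]
    have h6 : 3 * (2 * (p * (2 * t))) ≤ 3 * (4 * t ^ 2 + 6 * t + 3) := by nlinarith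
    omega
  exact Nat.le_of_mul_le_mul_left h5 A.dpos

end LA

theorem dvd_cases3 {M m : ℕ} (hM : 0 < M) (h : m ∣ M) : m = M ∨ 2 * m = M ∨ 3 * m ≤ M := by
  obtain ⟨k, hk⟩ := h
  have hk0 : k ≠ 0 := by
    rintro rfl
    omega
  rcases Nat.lt_or_ge k 3 with h1 | h1
  · have : k = 1 ∨ k = 2 := by omega
    rcases this with rfl | rfl
    · left; omega
    · right; left; omega
  · right; right
    rw [hk]
    nlinarith

/-- the situation: a composition factor of a group isospectral to `PSL_3(q)` -/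
structure LCtx (T : Type*) [Group T] (p f q d N E P : ℕ) : Prop where
  A : LA p f q d N E P
  iso : IsoN T N
  om : ∀ x : T, orderOf x ∣ N ∨ orderOf x ∣ E ∨ orderOf x ∣ q - 1 ∨ orderOf x ∣ P

section

variable {T : Type*} [Group T] {p f q d N E P : ℕ}

theorem LCtx.congr {T' : Type*} [Group T'] (h : LCtx T p f q d N E P) (e : T ≃* T') : LCtx T' p f q d N E P := by
  refine ⟨h.A, h.iso.congr e, ?_⟩
  intro x
  have := h.om (e.symm x)
  have h1 : orderOf (e.symm x) = orderOf x := orderOf_injective e.symm.toMonoidHom e.symm.injective x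
  rwa [h1] at this

theorem LCtx.win (h : LCtx T p f q d N E P) : LWin T N := by
  have A := h.A
  refine ⟨h.iso, ?_, fun r hr hrn => A.prime_mod hr hrn⟩
  have hb := h.iso.big
  have h5 := A.h5
  intro x m hx
  have hm := h.om x
  rw [hx] at hm
  rcases hm with hm | hm | hm | hm
  · rcases dvd_cases3 (by omega) hm with h6 | h6 | h6
    · exact Or.inl h6
    · right; left; omega
    · right; left; omega
  · obtain ⟨δ, h1, h2⟩ := A.E_delta
    rcases dvd_cases3 A.E_pos hm with h6 | h6 | h6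
    · right; right
      obtain ⟨t, ht, ht2, h7, -, -⟩ := A.exists_t
      refine ⟨δ, ?_, by omega, ?_, by rw [h6]; exact A.E_even⟩
      · rcases A.hd with ⟨h3, -⟩ | ⟨h3, h4⟩
        · rw [h3] at h2; omega
        · rw [h3] at h2
          have h8 : q ≠ 5 := by omega
          have h9 : q ≠ 6 := by omega
          omega
      · rcases A.d13 with h3 | h3
        · rw [h3, one_mul] at h2 h7
          rw [h2, h7, ht]
          nlinarith
        · rw [h3] at h2 h7
          nlinarith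
    · right; left; omega
    · right; left; omega
  · right; left
    have h6 := Nat.le_of_dvd (by omega) hm
    have h7 := A.two_mul_sub_le
    omega
  · by_cases hpq : p = q
    · obtain ⟨δ, h1, h2⟩ := A.P_delta hpq
      rcases dvd_cases3 A.P_pos hm with h6 | h6 | h6
      · right; right
        obtain ⟨t, ht, ht2, h7, -, -⟩ := A.exists_t
        refine ⟨δ, ?_, by omega, ?_, by rw [h6]; exact A.P_even⟩
        · rcases A.d13 with h3 | h3
          · rw [h3] at h2; omega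
          · rw [h3] at h2
            omega
        · rcases A.d13 with h3 | h3
          · rw [h3, one_mul] at h2 h7
            rw [h2, h7, ht]
            nlinarith
          · rw [h3] at h2 h7
            nlinarith
      · right; left; omega
      · right; left; omega
    · right; left
      have h6 := Nat.le_of_dvd A.P_pos hm
      have h7 := A.P_small hpq
      omega

/-- **`PSL_3(u)` in the window of `PSL_3(q)`: `u = q`** -/
theorem LCtx.eq_of_psl (h : LCtx T p f q d N E P) {u : ℕ} (hu : 2 ≤ u)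
    (h1 : N * Nat.gcd 3 (u - 1) * (u - 1) = u ^ 3 - 1) (h2 : ∃ x : T, orderOf x * Nat.gcd 3 (u - 1) = u ^ 2 - 1) :
    u = q := by
  have A := h.A
  obtain ⟨x, hx⟩ := h2
  set e := orderOf x with he
  set g := Nat.gcd 3 (u - 1) with hg
  have hg13 : g = 1 ∨ g = 3 := (Nat.dvd_prime Nat.prime_three).1 (Nat.gcd_dvd_left _ _)
  have h3 : N * g = u ^ 2 + u + 1 := by
    have h4 : u ^ 3 - 1 = (u ^ 2 + u + 1) * (u - 1) := by
      obtain ⟨v, rfl⟩ : ∃ v, u = v + 1 := ⟨u - 1, by omega⟩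
      have : (v + 1) ^ 3 = ((v + 1) ^ 2 + (v + 1) + 1) * v + 1 := by ring
      rw [this, Nat.add_sub_cancel, Nat.add_sub_cancel]
    rw [h4] at h1
    exact Nat.eq_of_mul_eq_mul_right (by omega) h1
  have hb := h.iso.big
  have hu5 : 5 ≤ u := by
    by_contra hcon
    have h5 : N * 1 ≤ N * g := Nat.mul_le_mul_left _ (by omega)
    have h6 : u ^ 2 ≤ 4 ^ 2 := Nat.pow_le_pow_left (by omega) 2
    omega
  have h4 : e * g + (u + 2) = N * g := by
    have h5 : 1 ≤ u ^ 2 := Nat.one_le_pow _ _ (by omega)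
    omega
  have h6 : N < 2 * e := by
    have h7 : N * g < 2 * e * g := by
      have h8 : 2 * e * g = 2 * (u ^ 2 - 1) := by rw [← hx]; ring
      rw [h8, h3]
      have h9 : 5 * u ≤ u ^ 2 := by nlinarith
      omega
    exact lt_of_mul_lt_mul_right h7 (Nat.zero_le _)
  have h7 : e < N := by
    have h8 : e * g < N * g := by omega
    exact lt_of_mul_lt_mul_right h8 (Nat.zero_le _)
  have h0 := A.h5
  have hqo := A.qodd
  have hNq := A.hN
  have hom := h.om x
  rw [← he] at hom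
  -- the two possibilities for `e`
  have hcase : (∃ δ, e + δ = N ∧ d * δ = q + 2) ∨ (∃ δ, e + δ = N ∧ d * δ = 2 * q + 1) := by
    rcases hom with h8 | h8 | h8 | h8
    · exfalso
      rcases dvd_cases3 (by omega) h8 with h9 | h9 | h9 <;> omega
    · left
      obtain ⟨δ, h9, h10⟩ := A.E_delta
      rcases dvd_cases3 A.E_pos h8 with h11 | h11 | h11
      · exact ⟨δ, by omega, h10⟩
      · omega
      · omega
    · exfalso
      have h9 := Nat.le_of_dvd (by omega) h8
      have h10 := A.two_mul_sub_le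
      omega
    · by_cases hpq : p = q
      · right
        obtain ⟨δ, h9, h10⟩ := A.P_delta hpq
        rcases dvd_cases3 A.P_pos h8 with h11 | h11 | h11
        · exact ⟨δ, by omega, h10⟩
        · omega
        · omega
      · exfalso
        have h9 := Nat.le_of_dvd A.P_pos h8
        have h10 := A.P_small hpq
        omega
  have hδ : ∀ δ, e + δ = N → δ * g = u + 2 := by
    intro δ h8
    rw [← h8] at h4
    have h9 : (e + δ) * g = e * g + δ * g := by ring
    omega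
  rcases A.d13 with hd | hd <;> rcases hg13 with hg' | hg' <;> rw [hd] at hNq hcase <;> rw [hg'] at h3 hδ
  · -- `d = 1`, `g = 1`
    have h8 : q ^ 2 + q = u ^ 2 + u := by omega
    nlinarith
  · -- `d = 1`, `g = 3`
    exfalso
    rcases hcase with ⟨δ, h8, h9⟩ | ⟨δ, h8, h9⟩
    · have h10 := hδ δ h8
      have h11 : u = 3 * q + 4 := by omega
      rw [h11] at h3
      nlinarith
    · have h10 := hδ δ h8
      have h11 : u = 6 * q + 1 := by omega
      rw [h11] at h3
      nlinarith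
  · -- `d = 3`, `g = 1`
    exfalso
    rcases hcase with ⟨δ, h8, h9⟩ | ⟨δ, h8, h9⟩
    · have h10 := hδ δ h8
      have h11 : q = 3 * u + 4 := by omega
      rw [h11] at hNq
      nlinarith
    · have h10 := hδ δ h8
      have h11 : 2 * q = 3 * u + 5 := by omega
      have h12 : 4 * (3 * N) = (2 * q) ^ 2 + 2 * (2 * q) + 4 := by rw [hNq]; ring
      rw [h11] at h12
      have h13 : N = u ^ 2 + u + 1 := by omega
      have h14 : u ^ 2 = 8 * u + 9 := by nlinarith
      have h15 : u = 9 := by nlinarith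
      obtain ⟨s, hs⟩ := hqo
      omega
  · -- `d = 3`, `g = 3`
    have h8 : q ^ 2 + q = u ^ 2 + u := by omega
    nlinarith

end

end Cfsg.Agent.R2.Spec.X2
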