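import Cfsg.Agent.R2.Spec.X2.LWin

/-!
# Elimination in the window of `PSL_3(q)`: unitary and orthogonal groups (helper16)
-/

set_option autoImplicit false

namespace Cfsg.Agent.R2.Spec.X2

open Cfsg Cfsg.Agent.H360.Iso Cfsg.Agent.H948.UProd Cfsg.Agent.H948.UMain

section

variable {T : Type*} [Group T] {n : ℕ}

/-- `PSU_m(u)`, first component -/
theorem LWin.not_psu_one (h : LWin T n) {u m g : ℕ} (hu : 2 ≤ u) (hm : 3 ≤ m) (h32 : ¬ (m = 3 ∧ u = 2)) (hg0 : 0 < g)
    (hn : n * g * (u + 1) = ph u (m - 1)) (hE : ∃ x : T, orderOf x * g = ph u (m - 2)) : False := by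
  obtain ⟨x, hx⟩ := hE
  set e := orderOf x with he
  obtain ⟨k, rfl⟩ : ∃ k, m = k + 2 := ⟨m - 2, by omega⟩
  rw [Nat.add_sub_cancel] at hx
  have e0 : k + 2 - 1 = k + 1 := by omega
  rw [e0] at hn
  set U : ℤ := (u : ℤ) with hU
  set X : ℤ := (u : ℤ) ^ (k + 1) with hX
  set G : ℤ := (g : ℤ) with hG
  have hU2 : 2 ≤ U := by omega
  have hG0 : 0 < G := by omega
  have e1 : (n : ℤ) * G * (U + 1) = (ph u (k + 1) : ℤ) := by
    rw [← hn]
    push_cast
    ring
  have e2 : (e : ℤ) * G = (ph u k : ℤ) := by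
    rw [← hx]
    push_cast
    ring
  rw [ph_cast (by omega)] at e1 e2
  have e3 : (u : ℤ) ^ (k + 1 + 1) = U * X := by rw [pow_succ]; ring
  rw [e3] at e1
  have eA : ∀ s : ℤ, (-1 : ℤ) ^ (k + 1 + 1) = s → (-1 : ℤ) ^ (k + 1) = -s → 0 < X + (U + 2) * s → False := by
    intro s h1 h2 h3
    rw [h1] at e1
    rw [h2] at e2
    refine h.above (m := e) (c := G * (U + 1)) (A := X + (U + 2) * s) ⟨x, rfl⟩ (mul_pos hG0 (by linarith)) h3 ?_
    have h4 : G * (U + 1) * (e : ℤ) = (U + 1) * ((e : ℤ) * G) := by ring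
    have h5 : G * (U + 1) * (n : ℤ) = n * G * (U + 1) := by ring
    rw [h4, h5, e1, e2]
    ring
  rcases Nat.even_or_odd k with hke | hko
  · refine eA 1 (hke.add_one.add_one.neg_one_pow) (hke.add_one.neg_one_pow) ?_
    have : 0 < X := pow_pos (by linarith) _
    linarith
  · refine eA (-1) (hko.add_one.add_one.neg_one_pow) (by rw [hko.add_one.neg_one_pow, neg_neg]) ?_
    rcases Nat.lt_or_ge k 2 with hk | hk
    · have hk1 : k = 1 := by
        obtain ⟨t, ht⟩ := hko
        omega
      subst hk1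
      have hu3 : 3 ≤ U := by
        have : u ≠ 2 := fun hu2 => h32 ⟨rfl, hu2⟩
        omega
      have hXU : X = U ^ 2 := rfl
      nlinarith
    · have hXU : U ^ 3 ≤ X := pow_le_pow_right₀ (by linarith) (by omega)
      have h4 : 4 * U ≤ U ^ 3 := by
        have : 4 ≤ U ^ 2 := by nlinarith
        nlinarith
      nlinarith

/-- `PSU_m(u)`, second component -/
theorem LWin.not_psu_two (h : LWin T n) {u m : ℕ} (hu : 2 ≤ u) (hm : 4 ≤ m) (hg : u + 1 ∣ m)
    (hn : n * (u + 1) = ph u (m - 2)) (hE : ∃ x : T, orderOf x * (u + 1) ^ 2 = ph u (m - 1)) : False := by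
  have hb := h.big
  obtain ⟨x, hx⟩ := hE
  set e := orderOf x with he
  obtain ⟨k, rfl⟩ : ∃ k, m = k + 2 := ⟨m - 2, by omega⟩
  rw [Nat.add_sub_cancel] at hn
  have e0 : k + 2 - 1 = k + 1 := by omega
  rw [e0] at hx
  set U : ℤ := (u : ℤ) with hU
  set X : ℤ := (u : ℤ) ^ (k + 1) with hX
  have hU2 : 2 ≤ U := by omega
  have e1 : (n : ℤ) * (U + 1) = (ph u k : ℤ) := by
    rw [← hn]
    push_cast
    ring
  have e2 : (e : ℤ) * (U + 1) ^ 2 = (ph u (k + 1) : ℤ) := by
    rw [← hx]
    push_cast
    ring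
  have hnk : ∀ s : ℕ, k = s → (n : ℤ) * (U + 1) = (ph u s : ℤ) := by
    intro s hs
    rw [← hs]
    exact e1
  rw [ph_cast (by omega)] at e1 e2
  have e3 : (u : ℤ) ^ (k + 1 + 1) = U * X := by rw [pow_succ]; ring
  rw [e3] at e2
  -- the general argument
  have key : ∀ s : ℤ, (s = 1 ∨ s = -1) → (-1 : ℤ) ^ (k + 1) = -s → (-1 : ℤ) ^ (k + 1 + 1) = s →
      4 * (U + 1) ^ 3 * (X + s) ≤ (X + (U + 2) * s) ^ 2 → U + 3 < (U - 1) * X → 0 < X + (U + 2) * s → False := by
    intro s hs h1 h2 h3 h4 h5
    rw [h1] at e1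
    rw [h2] at e2
    have e1' : (n : ℤ) * (U + 1) = X + s := by rw [e1]; ring
    have hss : s ≤ 1 ∧ -1 ≤ s := by rcases hs with rfl | rfl <;> constructor <;> norm_num
    refine h.below (m := e) (c := (U + 1) ^ 2) (A := X + (U + 2) * s) ⟨x, rfl⟩ (by positivity) h5 ?_ ?_ ?_
    · have h6 : (U + 1) ^ 2 * (e : ℤ) = (e : ℤ) * (U + 1) ^ 2 := by ring
      have h7 : (U + 1) ^ 2 * (n : ℤ) = (U + 1) * ((n : ℤ) * (U + 1)) := by ring
      rw [h6, h7, e1', e2]
      ring
    · have h6 : (U + 1) ^ 2 * (e : ℤ) = (e : ℤ) * (U + 1) ^ 2 := by ring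
      have h7 : (U + 1) ^ 2 * (n : ℤ) = (U + 1) * ((n : ℤ) * (U + 1)) := by ring
      rw [h6, h7, e1', e2]
      have h8 : (U + 3) * s ≤ U + 3 := by nlinarith
      have h9 : 2 * (U * X - s) - (U + 1) * (X + s) = (U - 1) * X - (U + 3) * s := by ring
      linarith
    · have h6 : 4 * (n : ℤ) * ((U + 1) ^ 2) ^ 2 = 4 * (U + 1) ^ 3 * ((n : ℤ) * (U + 1)) := by ring
      rw [h6, e1']
      exact h3
  rcases Nat.even_or_odd k with hke | hko
  · -- `m` even
    refine key 1 (Or.inl rfl) (by rw [hke.add_one.neg_one_pow]) (by rw [hke.add_one.add_one.neg_one_pow]) ?_ ?_ ?_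
    · -- the inequality
      rcases Nat.lt_or_ge u 4 with hu4 | hu4
      · have hu23 : u = 2 ∨ u = 3 := by omega
        rcases hu23 with h2 | h3
        · have hk10 : 10 ≤ k := by
            by_contra hcon
            have h4 : k = 4 := by
              obtain ⟨t, ht⟩ := hke
              obtain ⟨s, hs⟩ := hg
              rw [h2] at hs
              omega
            have h5 := hnk 4 h4
            rw [ph_cast (by omega), ← hU] at h5
            have hU' : U = 2 := by omega
            rw [hU'] at h5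
            norm_num at h5
            omega
          have hU' : U = 2 := by omega
          have hX2048 : (2048 : ℤ) ≤ X := by
            rw [hX, ← hU, hU']
            calc (2048 : ℤ) = (2 : ℤ) ^ 11 := by norm_num
              _ ≤ (2 : ℤ) ^ (k + 1) := pow_le_pow_right₀ (by norm_num) (by omega)
          rw [hU']
          nlinarith
        · have hk6 : 6 ≤ k := by
            by_contra hcon
            have h4 : k = 2 := by
              obtain ⟨t, ht⟩ := hke
              obtain ⟨s, hs⟩ := hg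
              rw [h3] at hs
              omega
            have h5 := hnk 2 h4
            rw [ph_cast (by omega), ← hU] at h5
            have hU' : U = 3 := by omega
            rw [hU'] at h5
            norm_num at h5
            omega
          have hU' : U = 3 := by omega
          have hX2187 : (2187 : ℤ) ≤ X := by
            rw [hX, ← hU, hU']
            calc (2187 : ℤ) = (3 : ℤ) ^ 7 := by norm_num
              _ ≤ (3 : ℤ) ^ (k + 1) := pow_le_pow_right₀ (by norm_num) (by omega)
          rw [hU']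
          nlinarith
      · have hU4 : 4 ≤ U := by omega
        have hk4 : 4 ≤ k := by
          obtain ⟨t, ht⟩ := hke
          have := Nat.le_of_dvd (by omega) hg
          omega
        have hXU : U ^ 5 ≤ X := pow_le_pow_right₀ (by linarith) (by omega)
        have h1 : 4 * (U + 1) ^ 3 ≤ U ^ 5 := by
          obtain ⟨t, ht⟩ : ∃ t : ℤ, U = 4 + t := ⟨U - 4, by ring⟩
          have ht0 : 0 ≤ t := by linarith
          rw [ht]
          nlinarith [pow_nonneg ht0 2, pow_nonneg ht0 3, pow_nonneg ht0 4, pow_nonneg ht0 5]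
        have hX0 : 0 ≤ X := by positivity
        have h2 : 4 * (U + 1) ^ 3 * (X + 1) ≤ X * (X + 1) := mul_le_mul_of_nonneg_right (h1.trans hXU) (by linarith)
        nlinarith
    · have hXU : U ^ 3 ≤ X := pow_le_pow_right₀ (by linarith) (by
        obtain ⟨t, ht⟩ := hke
        omega)
      have h4 : 4 * U ≤ U ^ 3 := by
        have : 4 ≤ U ^ 2 := by nlinarith
        nlinarith
      nlinarith
    · have : 0 < X := pow_pos (by linarith) _
      linarith
  · -- `m` odd
    have hmo : Odd (k + 2) := by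
      obtain ⟨t, ht⟩ := hko
      exact ⟨t + 1, by omega⟩
    have hue : Even u := by
      obtain ⟨t, ht⟩ := hg
      rw [ht] at hmo
      have h1 := (Nat.odd_mul.1 hmo).1
      rcases Nat.even_or_odd u with h2 | h2
      · exact h2
      · exact absurd (h2.add_one) (Nat.not_even_iff_odd.2 h1)
    have hk3 : 3 ≤ k := by
      obtain ⟨t, ht⟩ := hko
      omega
    have hX4 : U ^ 4 ≤ X := pow_le_pow_right₀ (by linarith) (by omega)
    have h48 : 8 * U ≤ U ^ 4 := by
      have : 8 ≤ U ^ 3 := by
        calc (8 : ℤ) = 2 ^ 3 := by norm_num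
          _ ≤ U ^ 3 := pow_le_pow_left₀ (by norm_num) hU2 3
      calc 8 * U ≤ U ^ 3 * U := mul_le_mul_of_nonneg_right this (by linarith)
        _ = U ^ 4 := by ring
    refine key (-1) (Or.inr rfl) (by rw [hko.add_one.neg_one_pow, neg_neg]) (by rw [hko.add_one.add_one.neg_one_pow])
      ?_ ?_ ?_
    · rcases Nat.lt_or_ge u 6 with hu4 | hu4
      · have hu23 : u = 2 ∨ u = 4 := by
          obtain ⟨t, ht⟩ := hue
          omega
        rcases hu23 with h2 | h3
        · have hk7 : 7 ≤ k := by
            obtain ⟨t, ht⟩ := hko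
            obtain ⟨s, hs⟩ := hg
            rw [h2] at hs
            omega
          have hU' : U = 2 := by omega
          have hX256 : (256 : ℤ) ≤ X := by
            rw [hX, ← hU, hU']
            calc (256 : ℤ) = (2 : ℤ) ^ 8 := by norm_num
              _ ≤ (2 : ℤ) ^ (k + 1) := pow_le_pow_right₀ (by norm_num) (by omega)
          rw [hU']
          nlinarith
        · have hk13 : 13 ≤ k := by
            by_contra hcon
            have h4 : k = 3 := by
              obtain ⟨t, ht⟩ := hko
              obtain ⟨s, hs⟩ := hg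
              rw [h3] at hs
              omega
            have h5 := hnk 3 h4
            rw [ph_cast (by omega), ← hU] at h5
            have hU' : U = 4 := by omega
            rw [hU'] at h5
            norm_num at h5
            have h6 : n = 51 := by omega
            exact h.iso.not_three_dvd (by rw [h6]; norm_num)
          have hU' : U = 4 := by omega
          have hX4' : (16384 : ℤ) ≤ X := by
            rw [hX, ← hU, hU']
            calc (16384 : ℤ) = (4 : ℤ) ^ 7 := by norm_num
              _ ≤ (4 : ℤ) ^ (k + 1) := pow_le_pow_right₀ (by norm_num) (by omega)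
          rw [hU']
          nlinarith
      · have hU6 : 6 ≤ U := by omega
        have hk4 : 5 ≤ k := by
          have := Nat.le_of_dvd (by omega) hg
          omega
        have hXU : U ^ 6 ≤ X := pow_le_pow_right₀ (by linarith) (by omega)
        have h1 : 4 * (U + 1) ^ 3 ≤ U ^ 5 := by
          obtain ⟨t, ht⟩ : ∃ t : ℤ, U = 6 + t := ⟨U - 6, by ring⟩
          have ht0 : 0 ≤ t := by linarith
          rw [ht]
          nlinarith [pow_nonneg ht0 2, pow_nonneg ht0 3, pow_nonneg ht0 4, pow_nonneg ht0 5]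
        have hX5 : 6 * U ^ 5 ≤ X := by
          have : 6 * U ^ 5 ≤ U * U ^ 5 := mul_le_mul_of_nonneg_right hU6 (by positivity)
          have h7 : U * U ^ 5 = U ^ 6 := by ring
          linarith
        have hX0 : 0 < X := by positivity
        have h2 : 4 * (U + 1) ^ 3 * (X + -1) ≤ U ^ 5 * X := by
          calc 4 * (U + 1) ^ 3 * (X + -1) ≤ 4 * (U + 1) ^ 3 * X := by
                refine mul_le_mul_of_nonneg_left (by linarith) (by positivity)
            _ ≤ _ := mul_le_mul_of_nonneg_right h1 hX0.le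
        refine h2.trans ?_
        have h3 : 6 * (U ^ 5 * X) ≤ X * X := by
          calc 6 * (U ^ 5 * X) = 6 * U ^ 5 * X := by ring
            _ ≤ X * X := mul_le_mul_of_nonneg_right hX5 hX0.le
        have h4 : X ≤ 2 * (X + (U + 2) * -1) := by
          have : 2 * (U + 2) ≤ X := by linarith
          linarith
        have h5 : X ^ 2 ≤ (2 * (X + (U + 2) * -1)) ^ 2 := pow_le_pow_left₀ hX0.le h4 2
        nlinarith
    · nlinarith
    · linarith

/-- unitary groups -/
theorem LWin.not_isPSU (h : LWin T n) : ¬ IsPSU T := by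
  rintro ⟨F, _, _, m, u, hF, hm, h32, ⟨e⟩⟩
  have h' := h.congr e
  have hu : 2 ≤ u := LieClassical.HermBasic.two_le hF
  rcases psu_row hF hm h32 h'.iso with ⟨h1, h2⟩ | ⟨hm4, h0, h1, h2⟩ | ⟨-, -, h1⟩ | ⟨-, -, h1⟩
  · exact h'.not_psu_one hu hm h32 (Nat.gcd_pos_of_pos_left _ (by omega)) h1 h2
  · exact h'.not_psu_two hu hm4 h0 h1 h2
  · have := h'.mod_dvd (d := 5) (by rw [h1]; norm_num)
    omega
  · have := h'.mod_dvd (d := 11) (by rw [h1]; norm_num)
    omega

end

end Cfsg.Agent.R2.Spec.X2
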