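import Cfsg.Agent.R2.Spec.X2.NonSol
import Cfsg.Agent.R2.Spec.X2.LCtx
import Cfsg.Agent.S3633
import Cfsg.Agent.S2476
import Cfsg.Agent.H366.Coclique

/-!
# Groups with the element orders of `PSL_3(q)`, `q` odd: reduction to a simple section (helper16)
-/

set_option autoImplicit false
set_option linter.unusedSectionVars false

namespace Cfsg.Agent.R2.Spec.X2

open Cfsg

/-- the element orders of `PSL_3(q)` -/
def LOm (q N E P m : ℕ) : Prop := m ∣ N ∨ m ∣ E ∨ m ∣ q - 1 ∨ m ∣ P

/-- `G` has the element orders of `PSL_3(q)`. -/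
structure LG (G : Type*) [Group G] (p f q d N E P : ℕ) : Prop where
  A : LA p f q d N E P
  mem : ∀ m, (∃ g : G, orderOf g = m) ↔ LOm q N E P m

namespace LA

variable {p f q d N E P : ℕ} (A : LA p f q d N E P)

include A

theorem p_not_dvd_sq : ¬ p ∣ q ^ 2 - 1 := by
  have h5 := A.h5
  intro h
  have h1 : p ∣ q ^ 2 := dvd_pow A.dvd_q (by norm_num)
  have h2 := Nat.dvd_sub h1 h
  have h3 : q ^ 2 - (q ^ 2 - 1) = 1 := by
    have : 1 ≤ q ^ 2 := Nat.one_le_pow _ _ (by omega)
    omega
  rw [h3] at h2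
  exact A.hp.one_lt.ne' (Nat.dvd_one.1 h2)

theorem p_not_dvd_sub : ¬ p ∣ q - 1 := by
  intro h
  apply A.p_not_dvd_sq
  rw [A.sq_sub]
  exact h.mul_right _

theorem p_not_dvd_E : ¬ p ∣ E := by
  intro h
  apply A.p_not_dvd_sq
  rw [← A.hE]
  exact h.mul_left _

theorem p_not_dvd_N : ¬ p ∣ N := fun h => (A.prime_facts A.hp h).2.2.1 rfl

/-- multiples of `p` -/
theorem dvd_of_mul_p {k : ℕ} (h : LOm q N E P (p * k)) : d * k ∣ q - 1 := by
  rcases h with h | h | h | h
  · exact absurd ((dvd_mul_right p k).trans h) A.p_not_dvd_N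
  · exact absurd ((dvd_mul_right p k).trans h) A.p_not_dvd_E
  · exact absurd ((dvd_mul_right p k).trans h) A.p_not_dvd_sub
  · have h1 : d * (p * k) ∣ p * (q - 1) := by
      rw [← A.hP]
      exact mul_dvd_mul_left d h
    have h2 : d * (p * k) = p * (d * k) := by ring
    rw [h2] at h1
    exact Nat.dvd_of_mul_dvd_mul_left A.hp.pos h1

theorem p_dvd_P : p ∣ P := by
  have h1 : p ∣ d * P := by
    rw [A.hP]
    exact dvd_mul_right _ _
  rcases A.hp.dvd_mul.1 h1 with h2 | h2
  · exfalso
    rcases A.hd with ⟨h3, h4⟩ | ⟨h3, h4⟩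
    · rw [h3] at h2
      exact A.hp.one_lt.ne' (Nat.dvd_one.1 h2)
    · rw [h3] at h2
      have h5 := (Nat.prime_dvd_prime_iff_eq A.hp Nat.prime_three).1 h2
      have h6 := A.dvd_q
      rw [h5] at h6
      omega
  · exact h2

theorem two_p_dvd_P : 2 * p ∣ P :=
  Nat.Coprime.mul_dvd_of_dvd_of_dvd ((Nat.coprime_primes Nat.prime_two A.hp).2 A.hp2.symm)
    (even_iff_two_dvd.1 A.P_even) A.p_dvd_P

/-- isolation -/
theorem om_iso {m r : ℕ} (h : LOm q N E P m) (hr : r.Prime) (hrN : r ∣ N) (hrm : r ∣ m) : m ∣ N := by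
  obtain ⟨h1, h2, h3⟩ := A.prime_facts' hr hrN
  rcases h with h | h | h | h
  · exact h
  · exact absurd (hrm.trans h) h1
  · exact absurd (hrm.trans h) h3
  · exact absurd (hrm.trans h) h2

theorem not_mul_N {r s : ℕ} (hr : r.Prime) (hrN : r ∣ N) (hs : ¬ s ∣ N) : ¬ LOm q N E P (s * r) := fun h =>
  hs ((dvd_mul_right s r).trans (A.om_iso h hr hrN (dvd_mul_left r s)))

theorem N_one_lt : 1 < N := by have := A.N_gt; omega

/-- the case `q + 1` a power of two -/
theorem mersenne (h : ∀ r : ℕ, r.Prime → r ∣ q + 1 → r = 2) :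
    ∃ k, q + 1 = 2 ^ k ∧ 3 ≤ k ∧ q = p ∧ d = 3 := by
  have h5 := A.h5
  have hk := Nat.eq_prime_pow_of_unique_prime_dvd (n := q + 1) (p := 2) (by omega) (fun {r} hr hrd => h r hr hrd)
  set k := (q + 1).primeFactorsList.length with hkdef
  have hk3 : 3 ≤ k := by
    by_contra hlt
    have : 2 ^ k ≤ 2 ^ 2 := Nat.pow_le_pow_right (by norm_num) (by omega)
    omega
  have h4 : 8 ∣ q + 1 := by
    rw [hk]
    exact pow_dvd_pow 2 hk3
  -- `f` is odd
  have hfo : Odd f := by
    rcases Nat.even_or_odd f with hfe | hfo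
    · exfalso
      obtain ⟨j, hj⟩ := hfe
      have h1 : q = (p ^ j) ^ 2 := by
        rw [A.hq, hj, ← pow_mul]
        congr 1
        ring
      obtain ⟨s, hs⟩ := A.podd.pow (n := j)
      rw [hs] at h1
      have h2 : (2 * s + 1) ^ 2 = 4 * (s ^ 2 + s) + 1 := by ring
      omega
    · exact hfo
  -- `p + 1 ∣ q + 1`
  obtain ⟨c, hc⟩ : p + 1 ∣ q + 1 := by
    rw [A.hq]
    have h1 := Odd.nat_add_dvd_pow_add_pow p 1 hfo
    rwa [one_pow] at h1
  have hqp : q = p := by
    by_contra hne
    have hlt : p < q := lt_of_le_of_ne A.p_le (Ne.symm hne)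
    have hc2 : 2 ≤ c := by
      by_contra hcon
      have : c = 0 ∨ c = 1 := by omega
      rcases this with rfl | rfl <;> omega
    -- `c` is odd
    have hco : Odd c := by
      have hmod : (c : ZMod 2) = 1 := by
        -- `c = Σ (-p)^i`
        have h1 : ((p : ℤ) + 1) * (∑ i ∈ Finset.range f, (-(p : ℤ)) ^ i) = (p : ℤ) ^ f + 1 := by
          have h2 := mul_geom_sum (-(p : ℤ)) f
          have h3 : (-(p : ℤ)) ^ f = -(p : ℤ) ^ f := hfo.neg_pow _
          rw [h3] at h2
          linarith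
        have h2 : ((p : ℤ) + 1) * (c : ℤ) = (p : ℤ) ^ f + 1 := by
          have h3 : ((q + 1 : ℕ) : ℤ) = (((p + 1) * c : ℕ) : ℤ) := by rw [hc]
          push_cast at h3
          rw [A.hq] at h3
          push_cast at h3
          linarith
        have h3 : (c : ℤ) = ∑ i ∈ Finset.range f, (-(p : ℤ)) ^ i := by
          have h4 : ((p : ℤ) + 1) * (c : ℤ) = ((p : ℤ) + 1) * (∑ i ∈ Finset.range f, (-(p : ℤ)) ^ i) := by
            rw [h1, h2]
          exact mul_left_cancel₀ (by positivity) h4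
        have h4 := congrArg (Int.cast : ℤ → ZMod 2) h3
        push_cast at h4
        have hp1 : (p : ZMod 2) = 1 := by
          obtain ⟨s, hs⟩ := A.podd
          rw [hs]
          push_cast
          have : (2 : ZMod 2) = 0 := rfl
          rw [this]
          ring
        have hn1 : (-(1 : ZMod 2)) = 1 := rfl
        rw [hp1, hn1] at h4
        simp only [one_pow, Finset.sum_const, Finset.card_range, nsmul_eq_mul, mul_one] at h4
        rw [h4]
        obtain ⟨s, hs⟩ := hfo
        rw [hs]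
        push_cast
        have : (2 : ZMod 2) = 0 := rfl
        rw [this]
        ring
      rw [← Nat.not_even_iff_odd, even_iff_two_dvd, ← ZMod.natCast_eq_zero_iff, hmod]
      exact one_ne_zero
    obtain ⟨r, hr, hrc⟩ := Nat.exists_prime_and_dvd (show c ≠ 1 by omega)
    have hr2 := h r hr (by rw [hc]; exact hrc.mul_left _)
    rw [hr2] at hrc
    exact (Nat.not_even_iff_odd.2 hco) (even_iff_two_dvd.2 hrc)
  refine ⟨k, hk, hk3, hqp, ?_⟩
  -- `q ≡ 1 mod 3`
  have h3 : q % 3 = 1 := by
    rcases Nat.even_or_odd' k with ⟨j, hj | hj⟩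
    · exfalso
      have h6 : 2 ^ k % 3 = 1 := by
        rw [hj, pow_mul, Nat.pow_mod]
        norm_num
      have h7 : 3 ∣ q := by omega
      rw [hqp] at h7
      have h8 := (Nat.prime_dvd_prime_iff_eq Nat.prime_three A.hp).1 h7
      omega
    · have h6 : 2 ^ k % 3 = 2 := by
        rw [hj, pow_succ, pow_mul, Nat.mul_mod, Nat.pow_mod]
        norm_num
      omega
  rcases A.hd with ⟨h6, h7⟩ | ⟨h6, h7⟩
  · exact absurd h3 h7
  · exact h6

end LA

namespace LG

variable {G : Type*} [Group G] [Finite G] {p f q d N E P : ℕ} (H : LG G p f q d N E P)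

include H

theorem om (g : G) : LOm q N E P (orderOf g) := (H.mem _).1 ⟨g, rfl⟩

theorem dvd_card {n : ℕ} (h : LOm q N E P n) : n ∣ Nat.card G := by
  obtain ⟨g, rfl⟩ := (H.mem n).2 h
  exact orderOf_dvd_natCard g

theorem iso {g : G} {r : ℕ} (hr : r.Prime) (hrN : r ∣ N) (h : r ∣ orderOf g) : orderOf g ∣ N :=
  H.A.om_iso (H.om g) hr hrN h

theorem two_dvd : 2 ∣ Nat.card G := H.dvd_card (Or.inr (Or.inl (even_iff_two_dvd.1 H.A.E_even)))

/-- **`G` is not solvable.** -/
theorem not_solvable : ¬ Group.IsSolvable G := by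
  classical
  have A := H.A
  have h5 := A.h5
  by_cases hm : ∀ r : ℕ, r.Prime → r ∣ q + 1 → r = 2
  · -- Mersenne primes
    obtain ⟨k, hk, hk3, hqp, hd⟩ := A.mersenne hm
    have hq1 : ∃ j, q = 4 * j + 3 ∧ 1 ≤ j := by
      have h8 : 2 ^ 3 ∣ q + 1 := by
        rw [hk]
        exact pow_dvd_pow 2 hk3
      obtain ⟨c, hc⟩ := h8
      refine ⟨2 * c - 1, ?_, ?_⟩ <;> omega
    obtain ⟨j, hj, hj1⟩ := hq1
    have hE := A.hE
    have hP := A.hP
    have hN := A.hN
    rw [hd] at hE hP hN
    have hgcd : Nat.gcd (2 ^ (k + 1)) (p - 1) = 2 := by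
      have h1 : p - 1 = 2 * (2 * j + 1) := by omega
      rw [h1, pow_succ', Nat.gcd_mul_left]
      have h2 : Nat.Coprime (2 ^ k) (2 * j + 1) := Nat.Coprime.pow_left _ (Nat.coprime_two_left.2 ⟨j, rfl⟩)
      rw [h2, mul_one]
    have hno : ¬ LOm q N E P (p * 2 ^ k) := by
      intro h
      have h1 := A.dvd_of_mul_p h
      have h2 : 2 ^ 2 ∣ q - 1 := (pow_dvd_pow 2 (by omega : 2 ≤ k)).trans ((dvd_mul_left _ _).trans h1)
      obtain ⟨c, hc⟩ := h2
      omega
    have hN3 : 3 * (N - 1) = (q + 2) * (q - 1) := by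
      obtain ⟨t, rfl⟩ : ∃ t, q = t + 1 := ⟨q - 1, by omega⟩
      rw [Nat.add_sub_cancel, Nat.mul_sub, hN]
      have : (t + 1) ^ 2 + (t + 1) + 1 = (t + 1 + 2) * t + 3 := by ring
      omega
    refine not_isSolvable (n := N) (p := p) (a := k) (w := 2 ^ (k + 1)) A.hp (by omega) ((H.mem _).2 (Or.inl dvd_rfl))
      A.N_one_lt A.N_odd (fun g r hr hrN hrg => H.iso hr hrN hrg)
      ((H.mem _).2 (Or.inr (Or.inr (Or.inr A.two_p_dvd_P)))) ?_ ?_ ?_ ?_ ?_ (by omega) ?_ ?_ ?_
    · -- `2 ^ (k + 1)`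
      refine (H.mem _).2 (Or.inr (Or.inl ?_))
      have h1 : 2 ^ (k + 1) ∣ 3 * E := by
        rw [hE, A.sq_sub, hk, pow_succ']
        exact mul_dvd_mul ⟨2 * j + 1, by omega⟩ dvd_rfl
      exact (Nat.Coprime.pow_left _ (by norm_num)).dvd_of_dvd_mul_left h1
    · rw [pow_succ]
      exact dvd_mul_left _ _
    · intro h
      have := (Nat.prime_dvd_prime_iff_eq A.hp Nat.prime_two).1 (A.hp.dvd_of_dvd_pow h)
      exact A.hp2 this
    · rw [hgcd]
      have h1 : 2 ^ (k + 1) / 2 = 2 ^ k := by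
        rw [pow_succ, Nat.mul_div_cancel _ (by norm_num)]
      rw [h1]
      exact fun h => hno ((H.mem _).1 h)
    · refine (H.mem _).2 (Or.inr (Or.inl ?_))
      have h1 : 2 ^ (k + 1) ∣ 3 * E := by
        rw [hE, A.sq_sub, hk, pow_succ']
        exact mul_dvd_mul ⟨2 * j + 1, by omega⟩ dvd_rfl
      exact (Nat.Coprime.pow_left _ (by norm_num)).dvd_of_dvd_mul_left h1
    · rw [mul_comm]
      exact fun h => hno ((H.mem _).1 h)
    · intro h
      have h1 : p ∣ (q + 2) * (q - 1) := by
        rw [← hN3]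
        exact h.mul_left _
      rcases A.hp.dvd_mul.1 h1 with h2 | h2
      · have h3 : p ∣ 2 := (Nat.dvd_add_right A.dvd_q).1 h2
        exact A.hp2 ((Nat.prime_dvd_prime_iff_eq A.hp Nat.prime_two).1 h3)
      · exact A.p_not_dvd_sub h2
    · intro h
      have h1 : 4 ∣ (q + 2) * (q - 1) := by
        rw [← hN3]
        exact h.mul_left _
      have h2 : Nat.Coprime 4 (q + 2) := by
        have : (4 : ℕ) = 2 ^ 2 := by norm_num
        rw [this]
        exact Nat.Coprime.pow_left 2 (Nat.coprime_two_left.2 ⟨2 * j + 2, by omega⟩)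
      obtain ⟨c, hc⟩ := h2.dvd_of_dvd_mul_left h1
      omega
  · push Not at hm
    obtain ⟨r2, hr, hrq, hr2⟩ := hm
    have hrp : r2 ≠ p := by
      rintro rfl
      exact hr.one_lt.ne' (Nat.dvd_one.1 ((Nat.dvd_add_right A.dvd_q).1 hrq))
    have hr1 : ¬ r2 ∣ q - 1 := by
      intro h2
      have h3 := Nat.dvd_sub hrq h2
      have h4 : q + 1 - (q - 1) = 2 := by omega
      rw [h4] at h3
      exact hr2 ((Nat.prime_dvd_prime_iff_eq hr Nat.prime_two).1 h3)
    have hrN : ¬ r2 ∣ N := fun h => (A.prime_facts hr h).2.2.2.2 hrq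
    have hrE : r2 ∣ E := by
      have h1 : r2 ∣ d * E := by
        rw [A.hE, A.sq_sub]
        exact hrq.mul_left _
      rcases hr.dvd_mul.1 h1 with h2 | h2
      · exfalso
        rcases A.hd with ⟨h3, h4⟩ | ⟨h3, h4⟩
        · rw [h3] at h2
          exact hr.one_lt.ne' (Nat.dvd_one.1 h2)
        · rw [h3] at h2
          have h6 := (Nat.prime_dvd_prime_iff_eq hr Nat.prime_three).1 h2
          rw [h6] at hrq
          omega
      · exact h2
    obtain ⟨r, hrr, hrrN⟩ := Nat.exists_prime_and_dvd A.N_one_lt.ne'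
    have hrp' : r ≠ p := (A.prime_facts hrr hrrN).2.2.1
    have hrr2 : r ≠ r2 := by rintro rfl; exact hrN hrrN
    have n1 : ¬ LOm q N E P (p * r2) := fun h => hr1 ((dvd_mul_left _ _).trans (A.dvd_of_mul_p h))
    have n2 : ¬ LOm q N E P (p * r) := A.not_mul_N hrr hrrN A.p_not_dvd_N
    have n3 : ¬ LOm q N E P (r2 * r) := A.not_mul_N hrr hrrN hrN
    have hco : ((∀ s ∈ ({p, r2, r} : Finset ℕ), s.Prime ∧ s ∣ Nat.card G) ∧ (∀ s ∈ ({p, r2, r} : Finset ℕ),
        ∀ t ∈ ({p, r2, r} : Finset ℕ), s ≠ t → ¬ ∃ x : G, orderOf x = s * t)) := by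
      constructor
      · intro s hs
        rw [Finset.mem_insert, Finset.mem_insert, Finset.mem_singleton] at hs
        rcases hs with rfl | rfl | rfl
        · exact ⟨A.hp, H.dvd_card (Or.inr (Or.inr (Or.inr A.p_dvd_P)))⟩
        · exact ⟨hr, H.dvd_card (Or.inr (Or.inl hrE))⟩
        · exact ⟨hrr, H.dvd_card (Or.inl hrrN)⟩
      · intro s hs t ht hst hx
        have hO := (H.mem _).1 hx
        rw [Finset.mem_insert, Finset.mem_insert, Finset.mem_singleton] at hs ht
        rcases hs with rfl | rfl | rfl <;> rcases ht with rfl | rfl | rfl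
        · exact hst rfl
        · exact n1 hO
        · exact n2 hO
        · exact n1 (by rwa [mul_comm])
        · exact hst rfl
        · exact n3 hO
        · exact n2 (by rwa [mul_comm])
        · exact n3 (by rwa [mul_comm])
        · exact hst rfl
    have hcard : 3 ≤ ({p, r2, r} : Finset ℕ).card := by
      rw [Finset.card_insert_of_notMem, Finset.card_insert_of_notMem, Finset.card_singleton]
      · rw [Finset.mem_singleton]; exact hrr2.symm
      · rw [Finset.mem_insert, Finset.mem_singleton]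
        push Not
        exact ⟨hrp.symm, hrp'.symm⟩
    exact (S3633.result (G := G) {p, r2, r} hcard hco (⊥ : Subgroup G) inferInstance).2

/-- **Not a Frobenius group.** -/
theorem not_frobenius {C : Subgroup G} (hC : IsFrobeniusComplement C) : False := by
  classical
  have A := H.A
  have h5 := A.h5
  obtain ⟨K, -, hKn, hKnil, hKC, hcop, -, hall⟩ := H495.Frob.frob_data C hC
  have hKs : Group.IsSolvable K := inferInstance
  have hCns : ¬ Group.IsSolvable C := by
    intro hCs
    apply H.not_solvable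
    have hs : Function.Surjective ((QuotientGroup.mk' K).comp C.subtype) := by
      intro g
      obtain ⟨g, rfl⟩ := QuotientGroup.mk'_surjective K g
      obtain ⟨⟨k, c⟩, hkc⟩ := hKC.2 g
      refine ⟨c, ?_⟩
      have h1 : (k : G) * (c : G) = g := hkc
      rw [← h1, map_mul]
      have h2 : QuotientGroup.mk' K (k : G) = 1 := (QuotientGroup.eq_one_iff _).2 k.2
      rw [h2, one_mul]
      rfl
    have hQ : Group.IsSolvable (G ⧸ K) := Group.isSolvable_of_surjective hs
    exact Group.isSolvable_of_ker_le_range K.subtype (QuotientGroup.mk' K)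
      (by rw [QuotientGroup.ker_mk', Subgroup.range_subtype])
  obtain ⟨h30, n9, n16, n24, h3s⟩ := nonsolv_complement hC hCns
  have h2C : 2 ∣ Nat.card C := (by norm_num : 2 ∣ 30).trans h30
  -- numbers of even order in `C`
  have hev : ∀ m, LOm q N E P m → Even m → ∀ j, j ∣ m → ∃ c : C, orderOf c = j := by
    intro m hm hme j hj
    obtain ⟨g, hg⟩ := (H.mem m).2 hm
    obtain ⟨c, hc⟩ := (mem_of_dvd_kernel hcop hall Nat.prime_two (x := g) (by
      rw [hg]; exact even_iff_two_dvd.1 hme)).2 h2C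
    obtain ⟨i, hi⟩ := hj
    have hm0 : 0 < orderOf c := orderOf_pos c
    rw [hc, hg] at hm0
    have hi0 : i ≠ 0 := by
      rintro rfl
      omega
    refine ⟨c ^ i, ?_⟩
    rw [orderOf_pow' c hi0, hc, hg, hi, Nat.gcd_mul_left_left, Nat.mul_div_cancel _ (Nat.pos_of_ne_zero hi0)]
  have e9 : ¬ 9 ∣ q - 1 := fun h => n9 (hev _ (Or.inr (Or.inr (Or.inl dvd_rfl))) (by
    obtain ⟨s, hs⟩ := A.qodd
    exact ⟨s, by omega⟩) 9 h)
  have e16 : ¬ 16 ∣ E := fun h => n16 (hev _ (Or.inr (Or.inl dvd_rfl)) A.E_even 16 h)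
  have e24 : ¬ 24 ∣ E := fun h => n24 (hev _ (Or.inr (Or.inl dvd_rfl)) A.E_even 24 h)
  have hpC : p ∣ Nat.card C := by
    obtain ⟨c, hc⟩ := hev _ (Or.inr (Or.inr (Or.inr dvd_rfl))) A.P_even p A.p_dvd_P
    rw [← hc]
    exact orderOf_dvd_natCard c
  -- `5`
  have hO5 : LOm q N E P 5 := by
    have : Fact (Nat.Prime 5) := ⟨Nat.prime_five⟩
    obtain ⟨c, hc⟩ := exists_prime_orderOf_dvd_card' (G := C) 5 ((by norm_num : 5 ∣ 30).trans h30)
    refine (H.mem 5).1 ⟨(c : G), ?_⟩
    rw [Subgroup.orderOf_coe, hc]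
  have hE := A.hE
  have hP := A.hP
  have hq := A.hq
  have hp3 := A.p3
  rcases Nat.lt_or_ge p 7 with hp7 | hp7
  · have hp35 : p = 3 ∨ p = 5 := by
      obtain ⟨s, hs⟩ := A.podd
      omega
    rcases hp35 with rfl | rfl
    · -- `p = 3`
      have hd : d = 1 := by
        have h6 := A.dvd_q
        rcases A.hd with ⟨h7, h8⟩ | ⟨h7, h8⟩
        · exact h7
        · omega
      rw [hd, one_mul] at hE
      have h40 : q % 80 = 1 ∨ q % 80 = 3 ∨ q % 80 = 9 ∨ q % 80 = 27 := by
        rw [hq]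
        clear * -
        induction f with
        | zero => left; norm_num
        | succ n ih => rw [pow_succ]; omega
      have hq2 : ∀ a, q % 80 = a → q ^ 2 % 80 = a ^ 2 % 80 := by
        intro a ha
        rw [Nat.pow_mod, ha]
      rcases h40 with h | h | h | h
      · have h6 := hq2 _ h
        norm_num at h6
        exact e16 (by rw [hE]; omega)
      · -- `5` is not an element order
        have h6 := hq2 _ h
        norm_num at h6
        have hNe : ¬ 5 ∣ N := fun h => by
          have := A.prime_mod Nat.prime_five h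
          omega
        rcases hO5 with h7 | h7 | h7 | h7
        · exact hNe h7
        · rw [hE] at h7
          have : 1 ≤ q ^ 2 := Nat.one_le_pow _ _ (by omega)
          omega
        · omega
        · have h8 : 5 ∣ 3 * (q - 1) := by
            rw [← hP]
            exact h7.mul_left _
          omega
      · have h6 := hq2 _ h
        norm_num at h6
        exact e16 (by rw [hE]; omega)
      · have h6 := hq2 _ h
        norm_num at h6
        have hNe : ¬ 5 ∣ N := fun h => by
          have := A.prime_mod Nat.prime_five h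
          omega
        rcases hO5 with h7 | h7 | h7 | h7
        · exact hNe h7
        · rw [hE] at h7
          have : 1 ≤ q ^ 2 := Nat.one_le_pow _ _ (by omega)
          omega
        · omega
        · have h8 : 5 ∣ 3 * (q - 1) := by
            rw [← hP]
            exact h7.mul_left _
          omega
    · -- `p = 5`
      have h48 : q % 48 = 5 ∨ q % 48 = 25 ∨ q % 48 = 29 ∨ q % 48 = 1 := by
        rw [hq]
        clear * -
        induction f with
        | zero => right; right; right; norm_num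
        | succ n ih => rw [pow_succ]; omega
      have hq2 : ∀ a, q % 48 = a → q ^ 2 % 48 = a ^ 2 % 48 := by
        intro a ha
        rw [Nat.pow_mod, ha]
      have h1q : 1 ≤ q ^ 2 := Nat.one_le_pow _ _ (by omega)
      rcases h48 with h | h | h | h
      · have h6 := hq2 _ h
        norm_num at h6
        have hd : d = 1 := by
          rcases A.hd with ⟨h7, h8⟩ | ⟨h7, h8⟩
          · exact h7
          · omega
        rw [hd, one_mul] at hE
        exact e24 (by rw [hE]; omega)
      · have h6 := hq2 _ h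
        norm_num at h6
        have hd : d = 3 := by
          rcases A.hd with ⟨h7, h8⟩ | ⟨h7, h8⟩
          · omega
          · exact h7
        rw [hd] at hE
        exact e16 (by omega)
      · have h6 := hq2 _ h
        norm_num at h6
        have hd : d = 1 := by
          rcases A.hd with ⟨h7, h8⟩ | ⟨h7, h8⟩
          · exact h7
          · omega
        rw [hd, one_mul] at hE
        exact e24 (by rw [hE]; omega)
      · have h6 := hq2 _ h
        norm_num at h6
        have hd : d = 3 := by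
          rcases A.hd with ⟨h7, h8⟩ | ⟨h7, h8⟩
          · omega
          · exact h7
        rw [hd] at hE
        exact e16 (by omega)
  · -- `p ≥ 7`
    rcases A.hd with ⟨hd, h3⟩ | ⟨hd, h3⟩
    · -- `24 ∣ q² - 1`
      have hq3 : ¬ 3 ∣ q := by
        rw [hq]
        intro h
        have := (Nat.prime_dvd_prime_iff_eq Nat.prime_three A.hp).1 (Nat.prime_three.dvd_of_dvd_pow h)
        omega
      have hqo := Nat.odd_iff.1 A.qodd
      rw [hd, one_mul] at hE
      apply e24
      rw [hE]
      have h1q : 1 ≤ q ^ 2 := Nat.one_le_pow _ _ (by omega)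
      have h24 : q ^ 2 % 24 = 1 := by
        rw [Nat.pow_mod]
        have h6 : q % 24 < 24 := Nat.mod_lt _ (by norm_num)
        have h7 : q % 24 % 2 = 1 := by omega
        have h8 : q % 24 % 3 ≠ 0 := by omega
        interval_cases q % 24 <;> simp_all
      omega
    · obtain ⟨x, hx⟩ := h3s p A.hp hp7 hpC
      have h6 : LOm q N E P (p * 3) := by
        refine (H.mem _).1 ⟨(x : G), ?_⟩
        rw [Subgroup.orderOf_coe, hx, mul_comm]
      have h7 := A.dvd_of_mul_p h6
      rw [hd] at h7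
      exact e9 h7

/-- primes joined to `2` do not divide `N`. -/
theorem not_dvd_of_reach {s : ℕ} (h : Relation.ReflTransGen (fun a b : ℕ => a.Prime ∧ b.Prime ∧ a ≠ b ∧
    a ∣ Nat.card G ∧ b ∣ Nat.card G ∧ ∃ g : G, orderOf g = a * b) 2 s) : ¬ s ∣ N := by
  induction h with
  | refl =>
    rw [← even_iff_two_dvd, Nat.not_even_iff_odd]
    exact H.A.N_odd
  | @tail a b _ hab ih =>
    obtain ⟨-, hb, -, -, -, hg⟩ := hab
    intro hbN
    exact H.A.not_mul_N hb hbN ih ((H.mem _).1 hg)

/-- **The reduction.** -/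
theorem reduce (h7 : q ≠ 7) : ∃ (N' M : Subgroup G) (_ : N'.Normal) (_ : M.Normal), N' ≤ M ∧ Group.IsSolvable N' ∧
    IsSimpleGroup (M ⧸ N'.subgroupOf M) ∧ ¬ IsMulCommutative (M ⧸ N'.subgroupOf M) ∧
    LCtx (M ⧸ N'.subgroupOf M) p f q d N E P ∧ (∀ s : ℕ, s.Prime → s ∣ Nat.card (G ⧸ M) → ¬ s ∣ N) := by
  classical
  have A := H.A
  have hN1 := (H.mem N).2 (Or.inl dvd_rfl)
  rcases S3856.result (G := G) (even_iff_two_dvd.2 H.two_dvd) (disc hN1 A.N_one_lt A.N_odd
    (fun g r hr hrN hrg => H.iso hr hrN hrg) H.two_dvd) with ⟨C, hC⟩ |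
    ⟨H0, K0, hH0, hK0, hlt, h1, h2⟩ | ⟨N', M, hN, hM, hNM, h1, h2, h3, h4⟩
  · exact (H.not_frobenius hC).elim
  · exfalso
    have := hH0
    have := hK0
    exact H.not_solvable (S4001.result H0 K0 hlt h1 h2).1
  · obtain ⟨r, hrr, hrN⟩ := Nat.exists_prime_and_dvd A.N_one_lt.ne'
    refine ⟨N', M, hN, hM, hNM, ?_, h3, h4, ⟨A, ⟨?_, ?_, ?_, ?_, A.N_big h7⟩, ?_⟩, ?_⟩
    · -- Thompson
      obtain ⟨y, hy⟩ := (H.mem r).2 (Or.inl hrN)
      have hnil : Group.IsNilpotent N' := by
        apply H366.Coclique.nilpotent_of_fpf N' hrr (y := y) (by rw [← hy, pow_orderOf_eq_one])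
        intro m hm hc
        by_contra hm1
        have hom1 : orderOf m ≠ 1 := fun h => hm1 (orderOf_eq_one_iff.1 h)
        obtain ⟨s, hs, hsm⟩ := Nat.exists_prime_and_dvd hom1
        have hsN : s ∣ Nat.card N' := hsm.trans (Subgroup.orderOf_dvd_natCard N' hm)
        have hsn := H.not_dvd_of_reach (h1 s hs hsN)
        have hsr : s ≠ r := by rintro rfl; exact hsn hrN
        obtain ⟨z, hz⟩ := H375.Reduce.exists_orderOf_mul ((Nat.coprime_primes hs hrr).2 hsr)
          (show Commute m y from hc.symm) hsm (by rw [hy])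
        have h5 := H.om z
        rw [hz] at h5
        exact A.not_mul_N hrr hrN hsn h5
      infer_instance
    · -- the element of order `N`
      obtain ⟨g, hg⟩ := hN1
      have hgM : g ∈ M := by
        apply H375.Reduce.mem_of_coprime M g
        rw [hg]
        exact Nat.coprime_of_dvd fun s hs hsn hsM => H.not_dvd_of_reach (h2 s hs hsM) hsn
      refine ⟨QuotientGroup.mk' (N'.subgroupOf M) ⟨g, hgM⟩, ?_⟩
      have h5 : orderOf (⟨g, hgM⟩ : M) = N := by rw [← hg, ← Subgroup.orderOf_coe]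
      rw [H375.Reduce.orderOf_mk, h5]
      rw [h5]
      refine Nat.coprime_of_dvd fun s hs hsn hsM => ?_
      have hc : Nat.card (N'.subgroupOf M) = Nat.card N' := Nat.card_congr (Subgroup.subgroupOfEquivOfLe hNM).toEquiv
      rw [hc] at hsM
      exact H.not_dvd_of_reach (h1 s hs hsM) hsn
    · -- isolation
      intro g s hs hsN hsg
      obtain ⟨x, rfl⟩ := QuotientGroup.mk'_surjective _ g
      have h6 : orderOf (QuotientGroup.mk' (N'.subgroupOf M) x) ∣ orderOf (x : G) := by
        rw [Subgroup.orderOf_coe]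
        exact orderOf_map_dvd _ _
      exact h6.trans (H.iso hs hsN (hsg.trans h6))
    · rw [← even_iff_two_dvd, Nat.not_even_iff_odd]
      exact A.N_odd
    · have := A.N_mod
      omega
    · intro g
      obtain ⟨x, rfl⟩ := QuotientGroup.mk'_surjective _ g
      have h5 := H.om (x : G)
      have h6 : orderOf (QuotientGroup.mk' (N'.subgroupOf M) x) ∣ orderOf (x : G) := by
        rw [Subgroup.orderOf_coe]
        exact orderOf_map_dvd _ _
      rcases h5 with h5 | h5 | h5 | h5
      · exact Or.inl (h6.trans h5)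
      · exact Or.inr (Or.inl (h6.trans h5))
      · exact Or.inr (Or.inr (Or.inl (h6.trans h5)))
      · exact Or.inr (Or.inr (Or.inr (h6.trans h5)))
    · exact fun s hs hsM => H.not_dvd_of_reach (h2 s hs hsM)

end LG

end Cfsg.Agent.R2.Spec.X2
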