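import Cfsg.Agent.H360.Iso.Cls

/-!
# The window of `PSL_3(q)`, `q` odd (helper16)

`LWin T n`: `n` is an isolated number of `T`, and every other element order `m` satisfies `2 m ≤ n`, or `m + δ = n` with
`m` even, `3 ≤ δ`, `δ² < 4 n`.
-/

set_option autoImplicit false

namespace Cfsg.Agent.R2.Spec.X2

open Cfsg Cfsg.Agent.H360.Iso

/-- the window -/
structure LWin (T : Type*) [Group T] (n : ℕ) : Prop where
  iso : IsoN T n
  win : ∀ (x : T) (m : ℕ), orderOf x = m → m = n ∨ 2 * m ≤ n ∨ (∃ δ, 3 ≤ δ ∧ m + δ = n ∧ δ ^ 2 < 4 * n ∧ Even m)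
  mod : ∀ r : ℕ, r.Prime → r ∣ n → r % 3 = 1

section

variable {T : Type*} [Group T] {n : ℕ}

theorem LWin.big (h : LWin T n) : 31 ≤ n := h.iso.big

theorem LWin.congr {T' : Type*} [Group T'] (h : LWin T n) (e : T ≃* T') : LWin T' n := by
  refine ⟨h.iso.congr e, ?_, h.mod⟩
  intro x m hx
  refine h.win (e.symm x) m ?_
  rw [← hx]
  exact orderOf_injective e.symm.toMonoidHom e.symm.injective x

theorem LWin.mod_dvd (h : LWin T n) {d : ℕ} (hd : d ∣ n) : d % 3 = 1 :=
  mod_of_dvd (by have := h.big; omega) h.mod hd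

/-- numbers larger than `n` are not element orders -/
theorem LWin.not_above (h : LWin T n) {m : ℕ} (he : ∃ x : T, orderOf x = m) (hm : n < m) : False := by
  obtain ⟨x, hx⟩ := he
  rcases h.win x m hx with h1 | h1 | ⟨δ, h1, h2, h3, h4⟩
  · omega
  · omega
  · omega

/-- odd numbers larger than `n / 2` and different from `n` are not element orders -/
theorem LWin.not_odd (h : LWin T n) {m : ℕ} (he : ∃ x : T, orderOf x = m) (ho : Odd m) (hm : n < 2 * m)
    (hne : m ≠ n) : False := by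
  obtain ⟨x, hx⟩ := he
  rcases h.win x m hx with h1 | h1 | ⟨δ, h1, h2, h3, h4⟩
  · omega
  · omega
  · exact (Nat.not_even_iff_odd.2 ho) h4

/-- numbers between `n / 2` and `n`, not in the window -/
theorem LWin.not_low (h : LWin T n) {m δ : ℕ} (he : ∃ x : T, orderOf x = m) (hm : m + δ = n) (hmn : n < 2 * m)
    (hδ : 0 < δ) (hw : δ ≤ 2 ∨ 4 * n ≤ δ ^ 2) : False := by
  obtain ⟨x, hx⟩ := he
  rcases h.win x m hx with h1 | h1 | ⟨δ', h1, h2, h3, h4⟩
  · omega
  · omega
  · have : δ' = δ := by omega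
    subst this
    omega

/-- an element order `n + 1`, `n + 2`, `n - 1`, `n - 2` is impossible -/
theorem LWin.not_near (h : LWin T n) {m : ℕ} (he : ∃ x : T, orderOf x = m) (hm : m ≠ n) (h1 : m ≤ n + 2)
    (h2 : n ≤ m + 2) : False := by
  have hb := h.big
  rcases Nat.lt_or_ge m n with h3 | h3
  · exact h.not_low he (δ := n - m) (by omega) (by omega) (by omega) (Or.inl (by omega))
  · exact h.not_above he (by omega)

/-- the general form of `not_above` -/
theorem LWin.above (h : LWin T n) {m : ℕ} {c A : ℤ} (he : ∃ x : T, orderOf x = m) (hc : 0 < c) (hA : 0 < A)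
    (hm : c * m = c * n + A) : False := by
  refine h.not_above he ?_
  by_contra h2
  have : c * m ≤ c * n := mul_le_mul_of_nonneg_left (by omega) hc.le
  omega

/-- the general form of `not_low` -/
theorem LWin.below (h : LWin T n) {m : ℕ} {c A : ℤ} (he : ∃ x : T, orderOf x = m) (hc : 0 < c) (hA : 0 < A)
    (hm : c * m + A = c * n) (h2 : c * n < 2 * (c * m)) (hw : 4 * n * c ^ 2 ≤ A ^ 2) : False := by
  have h1 : (m : ℤ) < n := by
    by_contra h2
    have : c * n ≤ c * m := mul_le_mul_of_nonneg_left (by omega) hc.le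
    omega
  have h0 : (n : ℤ) < 2 * m := by
    by_contra h3
    have h4 : c * (2 * m) ≤ c * n := mul_le_mul_of_nonneg_left (by omega) hc.le
    have h5 : c * (2 * m) = 2 * (c * m) := by ring
    omega
  obtain ⟨δ, hδ⟩ : ∃ δ, m + δ = n := ⟨n - m, by omega⟩
  have h3 : A = c * δ := by
    have h4 : (n : ℤ) = m + δ := by rw [← hδ]; push_cast; ring
    rw [h4] at hm
    linarith
  refine h.not_low he hδ (by omega) (by omega) (Or.inr ?_)
  rw [h3] at hw
  have h4 : (4 * n : ℤ) * c ^ 2 ≤ (δ : ℤ) ^ 2 * c ^ 2 := by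
    calc _ ≤ (c * δ) ^ 2 := hw
      _ = _ := by ring
  have h5 : (4 * n : ℤ) ≤ (δ : ℤ) ^ 2 := le_of_mul_le_mul_right h4 (by positivity)
  exact_mod_cast h5

/-- twins -/
theorem LWin.not_twin (h : LWin T n) {A B : ℕ} (hAB : A + 1 = B ∨ A + 2 = B) (ht : Twin T n A B) : False := by
  obtain ⟨h1, h2, h3⟩ := ht
  rcases h1 with h1 | h1
  · exact h.not_near h3 (by omega) (by omega) (by omega)
  · exact h.not_near h2 (by omega) (by omega) (by omega)

theorem LWin.not_isPSp (h : LWin T n) : ¬ IsPSp T := by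
  rintro ⟨F, _, _, m, hm, -, ⟨e⟩⟩
  have h' := h.congr e
  obtain ⟨A, B, hAB, ht⟩ := psp hm h'.iso
  exact h'.not_twin hAB ht

theorem LWin.not_isPOmegaOdd (h : LWin T n) : ¬ IsPOmegaOdd T := by
  rintro ⟨F, _, _, m, hm, ho, ⟨e⟩⟩
  have h' := h.congr e
  obtain ⟨A, B, hAB, ht⟩ := omegaOdd (by rwa [Nat.card_eq_fintype_card]) hm h'.iso
  exact h'.not_twin hAB ht

/-- `PSL_m(u)`, second component -/
theorem LWin.not_psl_two (h : LWin T n) {u m : ℕ} (hu : 2 ≤ u) (hm : 3 ≤ m)
    (hn : n * (u - 1) = u ^ (m - 1) - 1) (hE : ∃ x : T, orderOf x * (u - 1) ^ 2 = u ^ m - 1) : False := by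
  have hone : ∀ i, 1 ≤ u ^ i := fun i => Nat.one_le_pow _ _ (by omega)
  obtain ⟨x, hx⟩ := hE
  set e := orderOf x with he
  obtain ⟨k, rfl⟩ : ∃ k, m = k + 1 := ⟨m - 1, by omega⟩
  rw [Nat.add_sub_cancel] at hn
  set U : ℤ := (u : ℤ) with hU
  set X : ℤ := (u : ℤ) ^ k with hX
  have hU2 : 2 ≤ U := by omega
  have hX1 : 1 ≤ X := one_le_pow₀ (by linarith)
  have e1 : (n : ℤ) * (U - 1) = X - 1 := by
    have h1 : ((n * (u - 1) : ℕ) : ℤ) = ((u ^ k - 1 : ℕ) : ℤ) := by rw [hn]
    rw [Nat.cast_mul, Nat.cast_sub (by omega), Nat.cast_sub (hone _), Nat.cast_pow, Nat.cast_one] at h1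
    exact h1
  have e2 : (e : ℤ) * (U - 1) ^ 2 = U * X - 1 := by
    have h1 : ((e * (u - 1) ^ 2 : ℕ) : ℤ) = ((u ^ (k + 1) - 1 : ℕ) : ℤ) := by rw [hx]
    rw [Nat.cast_mul, Nat.cast_pow, Nat.cast_sub (by omega), Nat.cast_sub (hone _), Nat.cast_pow, Nat.cast_one] at h1
    rw [h1, pow_succ]
    ring
  refine h.above (m := e) (c := (U - 1) ^ 2) (A := X + U - 2) ⟨x, rfl⟩ (by nlinarith) (by linarith) ?_
  have h1 : (U - 1) ^ 2 * (e : ℤ) = (e : ℤ) * (U - 1) ^ 2 := by ring
  have h2 : (U - 1) ^ 2 * (n : ℤ) = (U - 1) * ((n : ℤ) * (U - 1)) := by ring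
  rw [h1, h2, e1, e2]
  ring

/-- `PSL_m(u)`, `m ≥ 4`, first component -/
theorem LWin.not_psl_one (h : LWin T n) {u m g : ℕ} (hu : 2 ≤ u) (hpp : IsPrimePow u) (hm : 4 ≤ m)
    (hg : g = Nat.gcd m (u - 1))
    (hn : n * g * (u - 1) = u ^ m - 1) (hE : ∃ x : T, orderOf x * g = u ^ (m - 1) - 1)
    (h2 : u = 2 → Odd m → ∃ x : T, orderOf x = 3 * (2 ^ (m - 2) - 1)) : False := by
  have hb := h.big
  have hone : ∀ i, 1 ≤ u ^ i := fun i => Nat.one_le_pow _ _ (by omega)
  obtain ⟨x, hx⟩ := hE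
  set e := orderOf x with he
  have hgm : g ∣ m := by rw [hg]; exact Nat.gcd_dvd_left _ _
  have hgu : g ∣ u - 1 := by rw [hg]; exact Nat.gcd_dvd_right _ _
  have hg0 : 0 < g := Nat.pos_of_dvd_of_pos hgm (by omega)
  rcases Nat.eq_or_lt_of_le hu with hu2 | hu3
  · -- `u = 2`
    subst hu2
    have hg1 : g = 1 := Nat.eq_one_of_dvd_one (by simpa using hgu)
    rw [hg1] at hn
    norm_num at hn
    have hmo : Odd m := by
      rcases Nat.even_or_odd m with h3 | h3
      · exfalso
        apply h.iso.not_three_dvd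
        obtain ⟨k, rfl⟩ := h3
        rw [hn, ← two_mul, pow_mul]
        have := Nat.sub_dvd_pow_sub_pow 4 1 k
        rw [one_pow] at this
        exact this
      · exact h3
    obtain ⟨y, hy⟩ := h2 rfl hmo
    obtain ⟨k, rfl⟩ : ∃ k, m = k + 2 := ⟨m - 2, by omega⟩
    rw [Nat.add_sub_cancel] at hy
    have h4 := hone k
    have h5 : 2 ^ (k + 2) = 4 * 2 ^ k := by ring
    rw [h5] at hn
    have hk0 : k ≠ 0 := by omega
    obtain ⟨j, hj⟩ : Even (2 ^ k) := by
      rw [Nat.even_pow]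
      exact ⟨by decide, hk0⟩
    refine h.not_odd ⟨y, hy⟩ ⟨3 * j - 2, by omega⟩ (by omega) (by omega)
  · -- `u ≥ 3`
    obtain ⟨k, rfl⟩ : ∃ k, m = k + 1 := ⟨m - 1, by omega⟩
    rw [Nat.add_sub_cancel] at hx
    have hgle : g ≤ u - 1 := Nat.le_of_dvd (by omega) hgu
    -- integers
    set U : ℤ := (u : ℤ) with hU
    set X : ℤ := (u : ℤ) ^ k with hX
    set G : ℤ := (g : ℤ) with hG
    have hU3 : 3 ≤ U := by omega
    have hG0 : 0 < G := by omega
    have hGU : G ≤ U - 1 := by omega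
    have e1 : (n : ℤ) * G * (U - 1) = U * X - 1 := by
      have h1 : ((n * g * (u - 1) : ℕ) : ℤ) = ((u ^ (k + 1) - 1 : ℕ) : ℤ) := by rw [hn]
      rw [Nat.cast_mul, Nat.cast_mul, Nat.cast_sub (by omega), Nat.cast_sub (hone _), Nat.cast_pow, Nat.cast_one] at h1
      rw [h1, pow_succ]
      ring
    have e2 : (e : ℤ) * G = X - 1 := by
      have h1 : ((e * g : ℕ) : ℤ) = ((u ^ k - 1 : ℕ) : ℤ) := by rw [hx]
      rw [Nat.cast_mul, Nat.cast_sub (hone _), Nat.cast_pow, Nat.cast_one] at h1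
      exact h1
    have hX9 : U ^ 3 ≤ X := pow_le_pow_right₀ (by linarith) (by omega)
    have hX3 : 9 * U ≤ X := by
      have h9 : 9 ≤ U ^ 2 := by nlinarith
      have h10 : 9 * U ≤ U ^ 2 * U := mul_le_mul_of_nonneg_right h9 (by linarith)
      have h11 : U ^ 2 * U = U ^ 3 := by ring
      linarith
    have key : 4 * G * (U - 1) * (U * X - 1) ≤ (X + U - 2) ^ 2 → False := by
      intro hw
      refine h.below (m := e) (c := G * (U - 1)) (A := X + U - 2) ⟨x, rfl⟩
        (mul_pos hG0 (by linarith)) (by linarith) ?_ ?_ ?_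
      · have h1 : G * (U - 1) * (e : ℤ) = (U - 1) * ((e : ℤ) * G) := by ring
        have h3 : G * (U - 1) * (n : ℤ) = n * G * (U - 1) := by ring
        rw [h1, h3, e1, e2]
        ring
      · have h1 : G * (U - 1) * (e : ℤ) = (U - 1) * ((e : ℤ) * G) := by ring
        have h3 : G * (U - 1) * (n : ℤ) = n * G * (U - 1) := by ring
        rw [h1, h3, e1, e2]
        nlinarith
      · have h1 : 4 * (n : ℤ) * (G * (U - 1)) ^ 2 = 4 * G * (U - 1) * ((n : ℤ) * G * (U - 1)) := by ring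
        rw [h1, e1]
        exact hw
    apply key
    rcases Nat.eq_or_lt_of_le (show 3 ≤ k by omega) with hk3 | hk4
    · -- `m = 4`
      subst hk3
      norm_num at hgm hg
      -- `n g = (u + 1)(u² + 1)`
      have hng : n * g = (u + 1) * (u ^ 2 + 1) := by
        have h5 : u ^ (3 + 1) - 1 = (u + 1) * (u ^ 2 + 1) * (u - 1) := by
          obtain ⟨v, rfl⟩ : ∃ v, u = v + 1 := ⟨u - 1, by omega⟩
          have : (v + 1) ^ (3 + 1) = (v + 1 + 1) * ((v + 1) ^ 2 + 1) * v + 1 := by ring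
          rw [this, Nat.add_sub_cancel, Nat.add_sub_cancel]
        rw [h5] at hn
        exact Nat.eq_of_mul_eq_mul_right (by omega) hn
      rcases Nat.even_or_odd u with hue | huo
      · -- `u` even
        exfalso
        have hg1 : g = 1 := by
          have h6 : Odd (u - 1) := Nat.Even.sub_odd (by omega) hue odd_one
          have h7 : Nat.Coprime 4 (u - 1) := by
            have : (4 : ℕ) = 2 ^ 2 := by norm_num
            rw [this]
            exact Nat.Coprime.pow_left 2 (Nat.coprime_two_left.2 h6)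
          rw [hg]
          exact h7
        rw [hg1, mul_one] at hng
        have h8 := h.mod_dvd (d := u + 1) ⟨_, hng⟩
        have h9 : 3 ∣ u := by omega
        obtain ⟨p, k, hp, hk, hpk⟩ := (isPrimePow_nat_iff _).1 hpp
        have h10 : 2 ∣ p ^ k := by rw [hpk]; exact even_iff_two_dvd.1 hue
        have h11 : 3 ∣ p ^ k := by rw [hpk]; exact h9
        have h12 := (Nat.prime_dvd_prime_iff_eq Nat.prime_two hp).1 (Nat.prime_two.dvd_of_dvd_pow h10)
        have h13 := (Nat.prime_dvd_prime_iff_eq Nat.prime_three hp).1 (Nat.prime_three.dvd_of_dvd_pow h11)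
        omega
      · obtain ⟨a, ha⟩ := huo
        have h6 : n * g = 4 * ((a + 1) * (2 * a ^ 2 + 2 * a + 1)) := by
          rw [hng, ha]
          ring
        have hg4 : g = 4 := by
          apply Nat.dvd_antisymm hgm
          have h3 : Nat.Coprime 4 n := by
            have : (4 : ℕ) = 2 ^ 2 := by norm_num
            rw [this]
            exact Nat.Coprime.pow_left 2 (Nat.coprime_two_left.2 h.iso.odd)
          exact h3.dvd_of_dvd_mul_left ⟨_, h6⟩
        have h7 : n = (a + 1) * (2 * a ^ 2 + 2 * a + 1) := by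
          rw [hg4, mul_comm n 4] at h6
          exact Nat.eq_of_mul_eq_mul_left (by norm_num) h6
        have h8 := h.mod_dvd (d := a + 1) ⟨_, h7⟩
        have h9 : 4 ∣ u - 1 := by
          rw [← hg4]
          exact hgu
        have hu13 : u = 13 ∨ 15 ≤ u := by omega
        rcases hu13 with hu13 | hu15
        · exfalso
          have : a = 6 := by omega
          subst this
          have h10 := h.mod_dvd (d := 5) (by rw [h7]; norm_num)
          omega
        · have hU15 : 15 ≤ U := by omega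
          have hG4 : G = 4 := by omega
          rw [hG4]
          have hXU : X = U ^ 3 := rfl
          rw [hXU]
          have h10 : 4 * 4 * (U - 1) * (U * U ^ 3 - 1) ≤ 16 * (U - 1) * U ^ 4 := by nlinarith
          refine h10.trans ?_
          have h11 : 16 * (U - 1) * U ^ 4 ≤ U ^ 2 * U ^ 4 := by
            refine mul_le_mul_of_nonneg_right ?_ (by positivity)
            nlinarith
          have h12 : 0 ≤ U ^ 3 := by positivity
          have h13 : U ^ 3 ≤ U ^ 3 + U - 2 := by linarith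
          have h14 : (U ^ 3) ^ 2 ≤ (U ^ 3 + U - 2) ^ 2 := pow_le_pow_left₀ h12 h13 2
          nlinarith
    · -- `m ≥ 5`
      have hX4 : U ^ 4 ≤ X := pow_le_pow_right₀ (by linarith) (by omega)
      have h5 : 4 * G * (U - 1) * (U * X - 1) ≤ 4 * (U - 1) ^ 2 * (U * X) := by
        have h6 : 0 ≤ U * X - 1 := by nlinarith
        have h7 : 4 * G * (U - 1) ≤ 4 * (U - 1) ^ 2 := by nlinarith
        calc 4 * G * (U - 1) * (U * X - 1) ≤ 4 * (U - 1) ^ 2 * (U * X - 1) := mul_le_mul_of_nonneg_right h7 h6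
          _ ≤ _ := by nlinarith [sq_nonneg (U - 1)]
      refine h5.trans ?_
      have h8 : 4 * (U - 1) ^ 2 * U ≤ U ^ 4 := by
        have h9 : 4 * (U - 1) ^ 2 ≤ U ^ 3 := by
          nlinarith [sq_nonneg (U - 2)]
        calc 4 * (U - 1) ^ 2 * U ≤ U ^ 3 * U := mul_le_mul_of_nonneg_right h9 (by linarith)
          _ = U ^ 4 := by ring
      have hX0 : 0 ≤ X := by linarith
      have h10 : 4 * (U - 1) ^ 2 * (U * X) ≤ X * X := by
        calc 4 * (U - 1) ^ 2 * (U * X) = (4 * (U - 1) ^ 2 * U) * X := by ring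
          _ ≤ X * X := mul_le_mul_of_nonneg_right (h8.trans hX4) hX0
      refine h10.trans ?_
      nlinarith

end

end Cfsg.Agent.R2.Spec.X2
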