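import Cfsg.Agent.R2.Spec.X2.FrobSol

/-!
# A criterion for nonsolvability (helper16)
-/

set_option autoImplicit false

namespace Cfsg.Agent.R2.Spec.X2

open Cfsg Cfsg.Agent.H348
open scoped Pointwise

/-- the prime graph is disconnected -/
theorem disc {G : Type*} [Group G] [Finite G] {n : ℕ} (hn : ∃ g : G, orderOf g = n) (hn1 : 1 < n) (hno : Odd n)
    (hiso : ∀ (g : G) (r : ℕ), r.Prime → r ∣ n → r ∣ orderOf g → orderOf g ∣ n) (h2 : 2 ∣ Nat.card G) :
    (∃ B : Set ℕ, (∃ a ∈ B, a.Prime ∧ a ∣ Nat.card G) ∧ (∃ b ∉ B, b.Prime ∧ b ∣ Nat.card G) ∧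
      ∀ a ∈ B, ∀ b ∉ B, a.Prime → b.Prime → a ∣ Nat.card G → b ∣ Nat.card G → ¬ ∃ g : G, orderOf g = a * b) := by
  obtain ⟨r, hr, hrn⟩ := Nat.exists_prime_and_dvd hn1.ne'
  obtain ⟨g, hg⟩ := hn
  refine ⟨{a | a ∣ n}, ⟨r, hrn, hr, ?_⟩, ⟨2, ?_, Nat.prime_two, h2⟩, ?_⟩
  · refine hrn.trans ?_
    rw [← hg]
    exact orderOf_dvd_natCard g
  · show ¬ 2 ∣ n
    rw [← even_iff_two_dvd, Nat.not_even_iff_odd]
    exact hno
  · rintro a ha b hb hap _ _ _ ⟨g, hg⟩
    have h1 := hiso g a hap ha (by rw [hg]; exact dvd_mul_right a b)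
    rw [hg] at h1
    exact hb ((dvd_mul_left b a).trans h1)

/-- elements of a Frobenius group -/
theorem mem_of_dvd_kernel {G : Type*} [Group G] [Finite G] {K C : Subgroup G}
    (hcop : (Nat.card K).Coprime (Nat.card C)) (hall : ∀ x : G, x ∈ K ∨ ∃ g : G, x ∈ MulAut.conj g • C) {x : G} {r : ℕ}
    (hr : r.Prime) (hx : r ∣ orderOf x) :
    (r ∣ Nat.card K → x ∈ K) ∧ (r ∣ Nat.card C → ∃ c : C, orderOf c = orderOf x) := by
  rcases hall x with h1 | ⟨g, h1⟩
  · refine ⟨fun _ => h1, fun h2 => ?_⟩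
    exfalso
    have h3 : r ∣ Nat.card K := hx.trans (Subgroup.orderOf_dvd_natCard K h1)
    exact hr.one_lt.ne' (Nat.eq_one_of_dvd_coprimes hcop h3 h2)
  · obtain ⟨c, hc, rfl⟩ := h1
    have ho : orderOf (MulAut.conj g c) = orderOf c := MulEquiv.orderOf_eq _ _
    refine ⟨fun h2 => ?_, fun _ => ⟨⟨c, hc⟩, ?_⟩⟩
    · exfalso
      change r ∣ orderOf (MulAut.conj g c) at hx
      rw [ho] at hx
      have h3 : r ∣ Nat.card C := hx.trans (Subgroup.orderOf_dvd_natCard C hc)
      exact hr.one_lt.ne' (Nat.eq_one_of_dvd_coprimes hcop h2 h3)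
    · rw [Subgroup.orderOf_mk]
      exact ho.symm

/-- **A criterion for nonsolvability.** -/
theorem not_isSolvable {G : Type*} [Group G] [Finite G] {n p a w : ℕ} (hp : p.Prime) (hp5 : 5 ≤ p)
    (hn : ∃ g : G, orderOf g = n) (hn1 : 1 < n) (hno : Odd n)
    (hiso : ∀ (g : G) (r : ℕ), r.Prime → r ∣ n → r ∣ orderOf g → orderOf g ∣ n)
    (h2p : ∃ g : G, orderOf g = 2 * p)
    (hw : ∃ g : G, orderOf g = w) (hw2 : 2 ∣ w) (hwp : ¬ p ∣ w)
    (hwno : ¬ ∃ g : G, orderOf g = p * (w / Nat.gcd w (p - 1)))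
    (ha : ∃ g : G, orderOf g = 2 ^ (a + 1)) (ha1 : 1 ≤ a) (hano : ¬ ∃ g : G, orderOf g = 2 ^ a * p)
    (hnp : ¬ p ∣ n - 1) (hn4 : ¬ 4 ∣ n - 1) : ¬ Group.IsSolvable G := by
  classical
  intro hsol
  have hp2 : p ≠ 2 := by omega
  obtain ⟨g2, hg2⟩ := ha
  obtain ⟨gp, hgp⟩ := h2p
  obtain ⟨gw, hgw⟩ := hw
  obtain ⟨gn, hgn⟩ := id hn
  have h22 : 2 ∣ orderOf g2 := by
    rw [hg2, pow_succ]
    exact dvd_mul_left 2 _
  have h2G : 2 ∣ Nat.card G := h22.trans (orderOf_dvd_natCard g2)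
  -- the element of order `p`
  obtain ⟨y, hy⟩ : ∃ y : G, orderOf y = p ∧ ∃ k : ℕ, y = gp ^ k := by
    refine ⟨gp ^ 2, ?_, 2, rfl⟩
    rw [orderOf_pow' gp (by norm_num), hgp, Nat.gcd_mul_right_left, Nat.mul_div_cancel_left _ (by norm_num)]
  have hpn : ¬ p ∣ n := by
    intro h
    have h1 := hiso gp p hp h (by rw [hgp]; exact dvd_mul_left _ _)
    rw [hgp] at h1
    exact (Nat.not_even_iff_odd.2 hno) (even_iff_two_dvd.2 ((dvd_mul_right 2 p).trans h1))
  rcases S3856.result (G := G) (even_iff_two_dvd.2 h2G) (disc hn hn1 hno hiso h2G) with ⟨C, hC⟩ |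
    ⟨H0, K0, hH0, hK0, hlt, h1, h2⟩ | ⟨N, M, hN, hM, hNM, -, -, h3, h4⟩
  · -- Frobenius
    obtain ⟨K, -, hKn, hKnil, hKC, hcop, -, hall⟩ := H495.Frob.frob_data C hC
    have hyp := hy.1
    have hdy : p ∣ orderOf y := by rw [hyp]
    have hd := H495.Frob.orderOf_dvd hall gp
    rw [hgp] at hd
    rcases hd with hd | hd
    · -- the kernel
      have h2K : 2 ∣ Nat.card K := (dvd_mul_right _ _).trans hd
      have hpK : p ∣ Nat.card K := (dvd_mul_left _ _).trans hd
      have hg2K := (mem_of_dvd_kernel hcop hall Nat.prime_two h22).1 h2K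
      have hyK := (mem_of_dvd_kernel hcop hall hp hdy).1 hpK
      have hc : Commute (⟨g2, hg2K⟩ : K) ⟨y, hyK⟩ := by
        apply Lib.NilpotentCoprime.commute_of_coprime_orderOf
        rw [Subgroup.orderOf_mk, Subgroup.orderOf_mk, hg2, hyp]
        exact Nat.Coprime.pow_left _ ((Nat.coprime_primes Nat.prime_two hp).2 hp2.symm)
      have hc' : Commute g2 y := congrArg Subtype.val hc
      obtain ⟨z, hz⟩ := H496.TwoFrob.exists_of_commute (p := 2 ^ a) (q := p)
        (Nat.Coprime.pow_left _ ((Nat.coprime_primes Nat.prime_two hp).2 hp2.symm))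
        (x := g2) (y := y) (by rw [hg2]; exact pow_dvd_pow 2 (Nat.le_succ a)) hdy hc'
      exact hano ⟨z, hz⟩
    · -- the complement
      have h2C : 2 ∣ Nat.card C := (dvd_mul_right _ _).trans hd
      have hpC : p ∣ Nat.card C := (dvd_mul_left _ _).trans hd
      obtain ⟨w', hw'⟩ := (mem_of_dvd_kernel hcop hall Nat.prime_two (x := gw) (by rw [hgw]; exact hw2)).2 h2C
      obtain ⟨y', hy'⟩ := (mem_of_dvd_kernel hcop hall hp hdy).2 hpC
      rw [hgw] at hw'
      rw [hyp] at hy'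
      obtain ⟨z, hz⟩ := exists_mul (hasFPF_complement hC) hp hp5 hy' (w := w') (by rw [hw']; exact hwp)
      refine hwno ⟨(z : G), ?_⟩
      rw [Subgroup.orderOf_coe, hz, hw']
  · -- 2-Frobenius
    have := hH0
    have := hK0
    obtain ⟨hnil, hcyc, hmod⟩ := two_frob_data H0 K0 hlt h1 h2
    obtain ⟨-, hodd, hcop, -, hgraph⟩ := S4001.result H0 K0 hlt h1 h2
    set B := Nat.card (↥K0 ⧸ H0.subgroupOf K0) with hB
    have hcop1 : Nat.Coprime B (Nat.card H0) := Nat.Coprime.coprime_dvd_right (dvd_mul_right _ _) hcop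
    have hcop2 : Nat.Coprime B (Nat.card (G ⧸ K0)) := Nat.Coprime.coprime_dvd_right (dvd_mul_left _ _) hcop
    have h2B : ¬ 2 ∣ B := by
      rw [← even_iff_two_dvd, Nat.not_even_iff_odd]
      exact hodd
    have hpG : p ∣ Nat.card G := by
      rw [← hy.1]
      exact orderOf_dvd_natCard y
    -- primes of `n`
    have hnB : ∀ r : ℕ, r.Prime → r ∣ n → r ∣ B := by
      intro r hr hrn
      by_contra hrB
      have hrG : r ∣ Nat.card G := hrn.trans (by rw [← hgn]; exact orderOf_dvd_natCard gn)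
      have hr2 : r ≠ 2 := by
        rintro rfl
        exact (Nat.not_even_iff_odd.2 hno) (even_iff_two_dvd.2 hrn)
      obtain ⟨g, hg⟩ := (hgraph r 2 hr Nat.prime_two hr2 hrG h2G).2 (by tauto)
      have h5 := hiso g r hr hrn (by rw [hg]; exact dvd_mul_right _ _)
      rw [hg] at h5
      exact (Nat.not_even_iff_odd.2 hno) (even_iff_two_dvd.2 ((dvd_mul_left 2 r).trans h5))
    obtain ⟨r, hr, hrn⟩ := Nat.exists_prime_and_dvd hn1.ne'
    have hrB := hnB r hr hrn
    -- `B ∣ n`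
    have hBn : B ∣ n := by
      obtain ⟨b, hb⟩ := IsCyclic.exists_ofOrder_eq_natCard (α := ↥K0 ⧸ H0.subgroupOf K0)
      obtain ⟨b, rfl⟩ := QuotientGroup.mk'_surjective _ b
      have h5 : B ∣ orderOf (b : G) := by
        rw [hB, ← hb, Subgroup.orderOf_coe]
        exact orderOf_map_dvd _ b
      exact h5.trans (hiso b r hr hrn (hrB.trans h5))
    -- `n ∣ B`
    have hnB' : n ∣ B := by
      have h5 : gn ∈ K0 := by
        apply H375.Reduce.mem_of_coprime K0 gn
        rw [hgn]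
        refine Nat.coprime_of_dvd fun s hs h6 h7 => ?_
        exact hs.one_lt.ne' (Nat.eq_one_of_dvd_coprimes hcop2 (hnB s hs h6) h7)
      have h6 : orderOf (QuotientGroup.mk' (H0.subgroupOf K0) ⟨gn, h5⟩) = n := by
        have h7 : (orderOf (⟨gn, h5⟩ : K0)) = n := by rw [Subgroup.orderOf_mk, hgn]
        have h8 : orderOf (QuotientGroup.mk' (H0.subgroupOf K0) ⟨gn, h5⟩) ∣ n := by
          rw [← h7]
          exact orderOf_map_dvd _ _
        refine Nat.dvd_antisymm h8 ?_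
        set o := orderOf (QuotientGroup.mk' (H0.subgroupOf K0) ⟨gn, h5⟩) with ho
        have h9 : (⟨gn, h5⟩ : K0) ^ o ∈ H0.subgroupOf K0 := by
          rw [← QuotientGroup.eq_one_iff]
          exact pow_orderOf_eq_one (QuotientGroup.mk' (H0.subgroupOf K0) ⟨gn, h5⟩)
        rw [Subgroup.mem_subgroupOf] at h9
        have h10 : gn ^ o = 1 := by
          rw [← orderOf_eq_one_iff]
          have h11 : orderOf (gn ^ o) ∣ n := by rw [← hgn]; exact orderOf_pow_dvd o
          have h12 : orderOf (gn ^ o) ∣ Nat.card H0 := Subgroup.orderOf_dvd_natCard H0 h9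
          by_contra h13
          obtain ⟨s, hs, h14⟩ := Nat.exists_prime_and_dvd h13
          exact hs.one_lt.ne' (Nat.eq_one_of_dvd_coprimes hcop1 (hnB s hs (h14.trans h11)) (h14.trans h12))
        rw [← hgn]
        exact orderOf_dvd_of_pow_eq_one h10
      rw [hB, ← h6]
      exact orderOf_dvd_natCard _
    have hBeq : B = n := Nat.dvd_antisymm hBn hnB'
    rw [hBeq] at hmod hcop1 hcop2 h2B
    -- `|G / K0|` divides `n - 1`
    have hdvd : Nat.card (G ⧸ K0) ∣ n - 1 := by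
      have h5 : 1 ≡ n [MOD Nat.card (G ⧸ K0)] := hmod.symm
      exact (Nat.modEq_iff_dvd' (by omega)).1 h5
    -- a `p`-element and a 2-element in `H0`
    have hH : ∀ x : G, ∀ s : ℕ, s.Prime → (∀ t, t.Prime → t ∣ orderOf x → t = s) → ¬ s ∣ n → x ∈ K0 → x ∈ H0 := by
      intro x s hs hxs hsn hx
      have h5 : orderOf (QuotientGroup.mk' (H0.subgroupOf K0) ⟨x, hx⟩) = 1 := by
        by_contra h6
        obtain ⟨t, ht, h7⟩ := Nat.exists_prime_and_dvd h6
        have h8 : t ∣ orderOf x := by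
          refine h7.trans ?_
          have := orderOf_map_dvd (QuotientGroup.mk' (H0.subgroupOf K0)) (⟨x, hx⟩ : K0)
          rwa [Subgroup.orderOf_mk] at this
        have h9 := hxs t ht h8
        rw [h9] at h7
        apply hsn
        rw [← hBeq]
        exact h7.trans (orderOf_dvd_natCard _)
      rw [orderOf_eq_one_iff] at h5
      have h6 : (⟨x, hx⟩ : K0) ∈ H0.subgroupOf K0 := (QuotientGroup.eq_one_iff _).1 h5
      exact h6
    have hyH : y ∈ H0 := by
      refine hH y p hp ?_ hpn ?_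
      · intro t ht h5
        rw [hy.1] at h5
        exact (Nat.prime_dvd_prime_iff_eq ht hp).1 h5
      · rw [← QuotientGroup.eq_one_iff]
        have h5 : orderOf (y : G ⧸ K0) ∣ p := by
          rw [← hy.1]
          exact orderOf_map_dvd (QuotientGroup.mk' K0) y
        rcases (Nat.dvd_prime hp).1 h5 with h6 | h6
        · exact orderOf_eq_one_iff.1 h6
        · exfalso
          apply hnp
          rw [← h6]
          exact (orderOf_dvd_natCard _).trans hdvd
    have hgH : g2 ^ 2 ∈ H0 := by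
      refine hH _ 2 Nat.prime_two ?_ (by
        rw [← even_iff_two_dvd, Nat.not_even_iff_odd]
        exact hno) ?_
      · intro t ht h5
        have h6 : t ∣ 2 ^ (a + 1) := by
          rw [← hg2]
          exact h5.trans (orderOf_pow_dvd 2)
        exact (Nat.prime_dvd_prime_iff_eq ht Nat.prime_two).1 (ht.dvd_of_dvd_pow h6)
      · rw [← QuotientGroup.eq_one_iff]
        have h5 : orderOf (g2 : G ⧸ K0) ∣ 2 ^ (a + 1) := by
          rw [← hg2]
          exact orderOf_map_dvd (QuotientGroup.mk' K0) g2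
        obtain ⟨j, hj, hj2⟩ := (Nat.dvd_prime_pow Nat.prime_two).1 h5
        have hj1 : j ≤ 1 := by
          by_contra hcon
          apply hn4
          have h6 : 2 ^ 2 ∣ orderOf (g2 : G ⧸ K0) := by
            rw [hj2]
            exact pow_dvd_pow 2 (by omega)
          exact (h6.trans (orderOf_dvd_natCard _)).trans hdvd
        have h6 : orderOf (g2 : G ⧸ K0) ∣ 2 := by
          rw [hj2]
          calc 2 ^ j ∣ 2 ^ 1 := pow_dvd_pow 2 hj1
            _ = 2 := by norm_num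
        have h7 := orderOf_dvd_iff_pow_eq_one.1 h6
        exact h7
    have hc : Commute (⟨g2 ^ 2, hgH⟩ : H0) ⟨y, hyH⟩ := by
      apply Lib.NilpotentCoprime.commute_of_coprime_orderOf
      rw [Subgroup.orderOf_mk, Subgroup.orderOf_mk, hy.1]
      refine Nat.Coprime.coprime_dvd_left (orderOf_pow_dvd 2) ?_
      rw [hg2]
      exact Nat.Coprime.pow_left _ ((Nat.coprime_primes Nat.prime_two hp).2 hp2.symm)
    have hc' : Commute (g2 ^ 2) y := congrArg Subtype.val hc
    have ho2 : orderOf (g2 ^ 2) = 2 ^ a := by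
      rw [orderOf_pow' g2 (by norm_num), hg2, pow_succ, Nat.gcd_mul_left_left, Nat.mul_div_cancel _ (by norm_num)]
    obtain ⟨z, hz⟩ := H496.TwoFrob.exists_of_commute (p := 2 ^ a) (q := p)
      (Nat.Coprime.pow_left _ ((Nat.coprime_primes Nat.prime_two hp).2 hp2.symm))
      (x := g2 ^ 2) (y := y) (by rw [ho2]) (by rw [hy.1]) hc'
    exact hano ⟨z, hz⟩
  · -- the simple section
    have := hN
    have h5 : Group.IsSolvable (M ⧸ N.subgroupOf M) := inferInstance
    have := h3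
    exact h4 ⟨⟨fun a b => IsSimpleGroup.comm_iff_isSolvable.2 h5 a b⟩⟩

end Cfsg.Agent.R2.Spec.X2
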